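import Cfsg.Agent.H614.GLn.Basic
import Cfsg.Agent.H614.Complete
set_option linter.all false

/-!
# Labels of the irreducible characters of `GL_n(F)`

`K ⊇ F` finite, `θ : K →*₀ ℂ` injective, `M = |Kˣ|`.  Labels are the elements `c` of `ZMod M` (characters
`θ^c` of `Kˣ`) up to multiplication by `q = |F|`; `θ^c` factors through the norm to the field with `q^k`
elements if and only if `(q^k - 1) c = 0`.
-/

set_option autoImplicit false

open Polynomial

namespace Cfsg.Agent.H614.GLn

universe u w

/-- The standing hypotheses: everything is fine in dimensions `≤ N`. -/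
structure Ctx (F : Type u) [Field F] {K : Type w} [Field K] [Algebra F K] (θ : K →*₀ ℂ) (N M : ℕ) : Prop where
  finF : Finite F
  finK : Finite K
  inj : Function.Injective θ
  spl : ∀ h : F[X], h.Monic → h.natDegree ≤ N → (h.map (algebraMap F K)).Splits
  card : Nat.card Kˣ = M
  dvd : ∀ d, 0 < d → d ≤ N → Nat.card F ^ d - 1 ∣ M

/-- `θ^c` factors through the norm to the field with `q^k` elements -/
def Tor (q M k : ℕ) (c : ZMod M) : Prop := ((q : ZMod M) ^ k - 1) * c = 0

/-- the size of the `q`-orbit of a label -/
noncomputable def per (q M : ℕ) (c : ZMod M) : ℕ := Function.minimalPeriod (fun x : ZMod M => (q : ZMod M) * x) c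

/-- two labels in the same `q`-orbit -/
def SameOrb (q M : ℕ) (c c' : ZMod M) : Prop := ∃ j : ℕ, c' = (q : ZMod M) ^ j * c

open Classical in
/-- representatives of the `q`-orbits of labels -/
noncomputable def reps (q M : ℕ) [NeZero M] : Finset (ZMod M) :=
  Finset.univ.filter fun c => ∀ j : ℕ, c.val ≤ ((q : ZMod M) ^ j * c).val

/-- the size of the partition of a `β`-tuple -/
def bsz {m : ℕ} (β : Fin m → ℕ) : ℕ := ∑ i, β i - ∑ i : Fin m, (i : ℕ)

section

variable {F : Type u} [Field F] {K : Type w} [Field K] [Algebra F K] (θ : K →*₀ ℂ)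

/-- the power sum `P_j` of the label `c` -/
noncomputable def Ps (M j : ℕ) (c : ZMod M) : Fam F := Rc θ M (j * per (Nat.card F) M c) c

end

/-- the data of an irreducible character of `GL_n(F)`: a strictly increasing tuple of length `m ≥ n` for each
label, constant on `q`-orbits, of total size `n` -/
structure Lab (q M m n : ℕ) [NeZero M] where
  /-- the tuples -/
  t : ZMod M → Fin m → ℕ
  mono : ∀ c, StrictMono (t c)
  orb : ∀ c, t ((q : ZMod M) * c) = t c
  sum : ∑ c : ZMod M, bsz (t c) = n

end Cfsg.Agent.H614.GLn
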