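import Cfsg.Agent.H614.Complete
import Mathlib.RingTheory.Derivation.Basic
import Cfsg.Agent.H577.GLB.Std
set_option linter.all false

-- part: H614/GLn/Sym
section
/-!
# Schur functions in a commutative `ℂ`-algebra with given power sums

`SS P k β = ∑_{ν ⊢ k} z_ν⁻¹ F_β(ν) P_ν`, for a sequence `P` of elements of a commutative algebra.
Recursion, Jacobi-Trudi, lowering by derivations, raising, expansion of the power sums.
-/

set_option autoImplicit false

namespace Cfsg.Agent.H614.GLn

open Finset Cfsg.Agent.H614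

variable {m : ℕ}

section ZV

variable {A : Type*} [AddCommGroup A] [Module ℂ A]

/-- The average over the partitions of `n` of a function with values in a vector space. -/
noncomputable def ZV (n : ℕ) (f : Multiset ℕ → A) : A := ∑ ν : n.Partition, ((zz ν.parts : ℂ)⁻¹) • f ν.parts

theorem ZV_congr {n : ℕ} {f g : Multiset ℕ → A}
    (h : ∀ s : Multiset ℕ, s.sum = n → (∀ i ∈ s, 0 < i) → f s = g s) : ZV n f = ZV n g := by
  unfold ZV
  refine Finset.sum_congr rfl fun ν _ => ?_
  rw [h ν.parts ν.parts_sum (fun i hi => ν.parts_pos hi)]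

theorem ZV_smul (n : ℕ) (c : ℂ) (f : Multiset ℕ → A) : ZV n (fun s => c • f s) = c • ZV n f := by
  unfold ZV
  rw [Finset.smul_sum]
  exact Finset.sum_congr rfl fun ν _ => smul_comm _ _ _

theorem ZV_finsum {ι : Type*} (n : ℕ) (t : Finset ι) (f : ι → Multiset ℕ → A) :
    ZV n (fun s => ∑ i ∈ t, f i s) = ∑ i ∈ t, ZV n (f i) := by
  unfold ZV
  rw [Finset.sum_comm]
  exact Finset.sum_congr rfl fun ν _ => by rw [Finset.smul_sum]

theorem ZV_zero (n : ℕ) : ZV n (fun _ => (0 : A)) = 0 := by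
  unfold ZV; simp

theorem ZV_map {A' : Type*} [AddCommGroup A'] [Module ℂ A'] (L : A →ₗ[ℂ] A') (n : ℕ) (f : Multiset ℕ → A) :
    L (ZV n f) = ZV n (fun s => L (f s)) := by
  unfold ZV
  rw [map_sum]
  exact Finset.sum_congr rfl fun ν _ => by rw [map_smul]

theorem ZV_zero_eq (f : Multiset ℕ → A) : ZV 0 f = f 0 := by
  unfold ZV
  have hu : (univ : Finset (Nat.Partition 0)) = {default} := by
    ext x; simp [Subsingleton.elim x default]
  have hp : (default : Nat.Partition 0).parts = 0 := by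
    have h := (default : Nat.Partition 0).parts_sum
    by_contra hne
    obtain ⟨a, ha⟩ := Multiset.exists_mem_of_ne_zero hne
    have h1 := (default : Nat.Partition 0).parts_pos ha
    have h2 := Multiset.le_sum_of_mem ha
    omega
  rw [hu, Finset.sum_singleton, hp]
  simp [zz]

/-- Marking a part equal to `r`. -/
theorem ZV_mark {n r : ℕ} (hr : 0 < r) (hrn : r ≤ n) (f : Multiset ℕ → A) :
    ZV n (fun s => ((r * s.count r : ℕ) : ℂ) • f s) = ZV (n - r) (fun s => f (r ::ₘ s)) := by
  unfold ZV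
  rw [← Finset.sum_filter_of_ne (p := fun ν : n.Partition => r ∈ ν.parts)]
  swap
  · intro ν _ h
    by_contra hn
    beta_reduce at h
    rw [Multiset.count_eq_zero.mpr hn] at h
    simp at h
  refine Finset.sum_bij' (i := fun ν hν => (⟨ν.parts.erase r, ?_, ?_⟩ : (n - r).Partition))
    (j := fun ν _ => (⟨r ::ₘ ν.parts, ?_, ?_⟩ : n.Partition)) ?_ ?_ ?_ ?_ ?_
  · intro i hi
    exact ν.parts_pos (Multiset.mem_of_mem_erase hi)
  · have h1 : r ∈ ν.parts := (Finset.mem_filter.mp hν).2
    have h2 := Multiset.cons_erase h1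
    have h3 := ν.parts_sum
    rw [← h2, Multiset.sum_cons] at h3
    omega
  · intro i hi
    rcases Multiset.mem_cons.mp hi with rfl | h
    · exact hr
    · exact ν.parts_pos h
  · rw [Multiset.sum_cons, ν.parts_sum]; omega
  · intro ν _; simp
  · intro ν _; simp
  · intro ν hν
    have h1 : r ∈ ν.parts := (Finset.mem_filter.mp hν).2
    apply Nat.Partition.ext
    exact Multiset.cons_erase h1
  · intro ν _
    apply Nat.Partition.ext
    simp
  · intro ν hν
    have h1 : r ∈ ν.parts := (Finset.mem_filter.mp hν).2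
    obtain ⟨s, hs⟩ : ∃ s, s = ν.parts.erase r := ⟨_, rfl⟩
    have h2 : ν.parts = r ::ₘ s := by rw [hs]; exact (Multiset.cons_erase h1).symm
    simp only
    rw [← hs, h2, Multiset.count_cons_self, zz_cons, smul_smul]
    congr 1
    have h3 : (zz s : ℂ) ≠ 0 := by
      have hpos : ∀ i ∈ s, 0 < i := by
        intro i hi
        have hi' : i ∈ ν.parts := by rw [h2]; exact Multiset.mem_cons_of_mem hi
        exact ν.parts_pos hi'
      have : 0 < zz s := zz_pos hpos
      exact_mod_cast this.ne'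
    have h4 : (r : ℂ) ≠ 0 := by exact_mod_cast hr.ne'
    have h5 : ((s.count r : ℂ) + 1) ≠ 0 := Nat.cast_add_one_ne_zero _
    push_cast
    field_simp

theorem ZV_rec (n : ℕ) (f : Multiset ℕ → A) :
    (n : ℂ) • ZV n f = ∑ r ∈ Finset.Icc 1 n, ZV (n - r) (fun s => f (r ::ₘ s)) := by
  rw [← ZV_smul, ZV_congr (g := fun s => ∑ r ∈ Finset.Icc 1 n, ((r * s.count r : ℕ) : ℂ) • f s), ZV_finsum]
  · refine Finset.sum_congr rfl fun r hr => ?_
    rw [Finset.mem_Icc] at hr
    exact ZV_mark hr.1 hr.2 f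
  · intro s hs hpos
    have h1 := sum_eq_sum_count hs hpos (fun _ => True)
    simp only [Multiset.filter_true, Finset.filter_true] at h1
    rw [← Finset.sum_smul, ← Nat.cast_sum, ← h1, hs]

end ZV

section SS

variable {A : Type*} [CommRing A] [Algebra ℂ A] (P : ℕ → A)

/-- the Schur function -/
noncomputable def SS (k : ℕ) (β : Fin m → ℕ) : A := ZV k (fun s => (FM s β : ℂ) • (s.map P).prod)

/-- the complete symmetric function -/
noncomputable def hh (k : ℕ) : A := ZV k (fun s => (s.map P).prod)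

theorem hh_zero : hh P 0 = 1 := by rw [hh, ZV_zero_eq]; simp

theorem hh_rec (k : ℕ) : (k : ℂ) • hh P k = ∑ r ∈ Finset.Icc 1 k, P r * hh P (k - r) := by
  rw [hh, ZV_rec]
  refine Finset.sum_congr rfl fun r _ => ?_
  have h := ZV_map (LinearMap.mulLeft ℂ (P r)) (k - r) (fun s => (s.map P).prod)
  rw [LinearMap.mulLeft_apply] at h
  rw [hh, h]
  exact ZV_congr fun s _ _ => by rw [Multiset.map_cons, Multiset.prod_cons]; rfl

theorem SS_alt (k : ℕ) : Alt (SS (m := m) P k) := by
  intro σ β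
  unfold SS ZV
  rw [Finset.smul_sum]
  refine Finset.sum_congr rfl fun ν _ => ?_
  beta_reduce
  rw [FM_alt ν.parts σ β, smul_eq_mul, ← Int.cast_smul_eq_zsmul ℂ (sg σ)]
  push_cast
  rw [mul_smul, smul_comm]

theorem two_torsion_alg {A : Type*} [AddCommGroup A] [Module ℂ A] (w : A) (h : w + w = 0) : w = 0 := by
  have h1 : (2 : ℂ) • w = 0 := by rw [two_smul]; exact h
  exact (smul_eq_zero.1 h1).resolve_left two_ne_zero

theorem SS_rec (k : ℕ) (β : Fin m → ℕ) : (k : ℂ) • SS P k β =
    ∑ r ∈ Finset.Icc 1 k, P r * ∑ j, (if r ≤ β j then SS P (k - r) (dn β j r) else 0) := by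
  rw [SS, ZV_rec]
  refine Finset.sum_congr rfl fun r _ => ?_
  have h : ∀ j, P r * (if r ≤ β j then SS P (k - r) (dn β j r) else 0) =
      ZV (k - r) (fun s => (if r ≤ β j then (FM s (dn β j r) : ℂ) else 0) • (P r * (s.map P).prod)) := by
    intro j
    by_cases hj : r ≤ β j
    · have h1 := ZV_map (LinearMap.mulLeft ℂ (P r)) (k - r) (fun s => (FM s (dn β j r) : ℂ) • (s.map P).prod)
      rw [LinearMap.mulLeft_apply] at h1
      rw [if_pos hj, SS, h1]
      refine ZV_congr fun s _ _ => ?_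
      rw [if_pos hj, map_smul]; rfl
    · rw [if_neg hj, mul_zero]
      simp only [if_neg hj, zero_smul]
      exact (ZV_zero _).symm
  rw [Finset.mul_sum, Finset.sum_congr rfl fun j _ => h j, ← ZV_finsum]
  refine ZV_congr fun s _ _ => ?_
  rw [Multiset.map_cons, Multiset.prod_cons, FM_cons, ← Finset.sum_smul]
  congr 1
  push_cast
  rfl

theorem SS_eq_zero_of_sum {k : ℕ} {β : Fin m → ℕ} (h : ∑ i, β i ≠ k + ∑ i : Fin m, (i : ℕ)) :
    SS P k β = 0 := by
  rw [SS, ZV_congr (g := fun _ => 0), ZV_zero]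
  intro s hs _
  rw [FM_eq_zero_of_sum s (by rw [hs]; exact h)]
  simp

theorem SS_zero_eq (β : Fin m → ℕ) : SS P 0 β = ((vac β : ℤ) : ℂ) • (1 : A) := by
  rw [SS, ZV_zero_eq, FM_zero]; simp

/-- one factor of the Jacobi-Trudi determinant -/
noncomputable def jt (a b : ℕ) : A := if b ≤ a then hh P (a - b) else 0

/-- the Jacobi-Trudi determinant -/
noncomputable def JT (β : Fin m → ℕ) : A := ∑ σ : Equiv.Perm (Fin m), sg σ • ∏ i, jt P (β i) (σ i : ℕ)

theorem jt_rec {a b : ℕ} (h : b ≤ a) {N : ℕ} (hN : a - b ≤ N) : ((a - b : ℕ) : ℂ) • jt P a b =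
    ∑ r ∈ Finset.Icc 1 N, P r * (if r ≤ a then jt P (a - r) b else 0) := by
  rw [jt, if_pos h, hh_rec]
  rw [← Finset.sum_subset (Finset.Icc_subset_Icc_right hN)]
  · refine Finset.sum_congr rfl fun r hr => ?_
    rw [Finset.mem_Icc] at hr
    rw [if_pos (by omega), jt, if_pos (by omega)]
    congr 2
    omega
  · intro r hr hr'
    rw [Finset.mem_Icc] at hr hr'
    split_ifs with h1
    · rw [jt, if_neg (by omega), mul_zero]
    · rw [mul_zero]

theorem JT_rec {k : ℕ} {β : Fin m → ℕ} (hβ : ∑ i, β i = k + ∑ i : Fin m, (i : ℕ)) : (k : ℂ) • JT P β =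
    ∑ r ∈ Finset.Icc 1 k, P r * ∑ j, (if r ≤ β j then JT P (dn β j r) else 0) := by
  classical
  have key : ∀ σ : Equiv.Perm (Fin m), (k : ℂ) • ∏ i, jt P (β i) (σ i : ℕ) =
      ∑ r ∈ Finset.Icc 1 k, P r * ∑ j, (if r ≤ β j then ∏ i, jt P (dn β j r i) (σ i : ℕ) else 0) := by
    intro σ
    by_cases hσ : ∀ i, (σ i : ℕ) ≤ β i
    · have h1 : (k : ℂ) = ∑ i, ((β i - σ i : ℕ) : ℂ) := by
        rw [← Nat.cast_sum]
        congr 1
        have h2 : ∑ i, (β i - (σ i : ℕ)) + ∑ i, ((σ i : Fin m) : ℕ) = ∑ i, β i := by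
          rw [← Finset.sum_add_distrib]
          exact Finset.sum_congr rfl fun i _ => Nat.sub_add_cancel (hσ i)
        rw [Equiv.sum_comp σ (fun i : Fin m => (i : ℕ))] at h2
        omega
      have hle : ∀ i, β i - (σ i : ℕ) ≤ k := by
        intro i
        have h2 : β i - (σ i : ℕ) ≤ ∑ i, (β i - (σ i : ℕ)) :=
          Finset.single_le_sum (f := fun i => β i - (σ i : ℕ)) (fun _ _ => Nat.zero_le _) (Finset.mem_univ i)
        have h3 : ((k : ℕ) : ℂ) = ((∑ i, (β i - (σ i : ℕ)) : ℕ) : ℂ) := by rw [h1]; push_cast; rfl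
        have h4 : k = ∑ i, (β i - (σ i : ℕ)) := by exact_mod_cast h3
        omega
      rw [h1, Finset.sum_smul]
      have h2 : ∀ j, ((β j - σ j : ℕ) : ℂ) • ∏ i, jt P (β i) (σ i : ℕ) =
          ∑ r ∈ Finset.Icc 1 k, P r * (if r ≤ β j then ∏ i, jt P (dn β j r i) (σ i : ℕ) else 0) := by
        intro j
        rw [← Finset.mul_prod_erase _ _ (Finset.mem_univ j), ← smul_mul_assoc, jt_rec P (hσ j) (hle j),
          Finset.sum_mul]
        refine Finset.sum_congr rfl fun r _ => ?_
        by_cases hr : r ≤ β j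
        · rw [if_pos hr, if_pos hr, ← Finset.mul_prod_erase _ _ (Finset.mem_univ j), dn_self, mul_assoc]
          congr 2
          refine Finset.prod_congr rfl fun i hi => ?_
          rw [dn_ne _ _ (Finset.ne_of_mem_erase hi)]
        · rw [if_neg hr, if_neg hr]; simp
      rw [Finset.sum_congr rfl fun j _ => h2 j, Finset.sum_comm]
      exact Finset.sum_congr rfl fun r _ => by rw [Finset.mul_sum]
    · push Not at hσ
      obtain ⟨i₀, hi₀⟩ := hσ
      have h1 : ∏ i, jt P (β i) (σ i : ℕ) = 0 :=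
        Finset.prod_eq_zero (Finset.mem_univ i₀) (by rw [jt, if_neg (by omega)])
      rw [h1, smul_zero]
      symm
      refine Finset.sum_eq_zero fun r _ => ?_
      rw [Finset.sum_eq_zero, mul_zero]
      intro j _
      split_ifs with hr
      · refine Finset.prod_eq_zero (Finset.mem_univ i₀) ?_
        rw [jt, if_neg]
        by_cases hj : i₀ = j
        · subst hj; rw [dn_self]; omega
        · rw [dn_ne _ _ hj]; omega
      · rfl
  unfold JT
  rw [Finset.smul_sum]
  have h1 : ∀ σ : Equiv.Perm (Fin m), (k : ℂ) • sg σ • ∏ i, jt P (β i) (σ i : ℕ) =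
      ∑ r ∈ Finset.Icc 1 k, sg σ • (P r * ∑ j, (if r ≤ β j then ∏ i, jt P (dn β j r i) (σ i : ℕ) else 0)) := by
    intro σ
    rw [smul_comm, key, Finset.smul_sum]
  rw [Finset.sum_congr rfl fun σ _ => h1 σ, Finset.sum_comm]
  refine Finset.sum_congr rfl fun r _ => ?_
  rw [Finset.mul_sum]
  have h2 : ∀ σ : Equiv.Perm (Fin m), sg σ • (P r * ∑ j, (if r ≤ β j then
      ∏ i, jt P (dn β j r i) (σ i : ℕ) else 0)) =
      ∑ j, sg σ • (P r * (if r ≤ β j then ∏ i, jt P (dn β j r i) (σ i : ℕ) else 0)) := by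
    intro σ; rw [Finset.mul_sum, Finset.smul_sum]
  rw [Finset.sum_congr rfl fun σ _ => h2 σ, Finset.sum_comm]
  refine Finset.sum_congr rfl fun j _ => ?_
  by_cases hr : r ≤ β j
  · simp only [if_pos hr]
    rw [Finset.mul_sum]
    exact Finset.sum_congr rfl fun σ _ => by rw [mul_smul_comm]
  · simp only [if_neg hr, mul_zero, smul_zero, Finset.sum_const_zero]

theorem JT_zero {β : Fin m → ℕ} (hβ : ∑ i, β i = ∑ i : Fin m, (i : ℕ)) : JT P β = ((vac β : ℤ) : ℂ) • (1 : A) := by
  unfold JT vac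
  push_cast
  rw [Finset.sum_smul]
  refine Finset.sum_congr rfl fun σ _ => ?_
  by_cases h : β = fun i => ((σ i : Fin m) : ℕ)
  · rw [if_pos h]
    have h1 : ∏ i, jt P (β i) (σ i : ℕ) = 1 := by
      refine Finset.prod_eq_one fun i _ => ?_
      rw [h, jt, if_pos le_rfl, Nat.sub_self, hh_zero]
    rw [h1]
    push_cast
    rw [← Int.cast_smul_eq_zsmul ℂ]
  · rw [if_neg h, zero_smul]
    have h1 : ∏ i, jt P (β i) (σ i : ℕ) = 0 := by
      by_contra hne
      apply h
      have h2 : ∀ i, (σ i : ℕ) ≤ β i := by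
        intro i
        by_contra hi
        exact hne (Finset.prod_eq_zero (Finset.mem_univ i) (by rw [jt, if_neg hi]))
      have h3 : ∑ i, ((σ i : Fin m) : ℕ) = ∑ i, β i := by
        rw [Equiv.sum_comp σ (fun i : Fin m => (i : ℕ)), hβ]
      funext i
      exact ((Finset.sum_eq_sum_iff_of_le fun i _ => h2 i).1 h3 i (Finset.mem_univ i)).symm
    rw [h1, smul_zero]

/-- **Jacobi-Trudi.** -/
theorem SS_eq_JT (k : ℕ) : ∀ {β : Fin m → ℕ}, ∑ i, β i = k + ∑ i : Fin m, (i : ℕ) → SS P k β = JT P β := by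
  induction k using Nat.strong_induction_on with
  | _ k ih =>
    intro β hβ
    rcases Nat.eq_zero_or_pos k with rfl | hk
    · rw [SS_zero_eq, JT_zero P (by simpa using hβ)]
    · have h1 := SS_rec P k β
      have h2 := JT_rec P hβ
      have h3 : (k : ℂ) • SS P k β = (k : ℂ) • JT P β := by
        rw [h1, h2]
        refine Finset.sum_congr rfl fun r hr => ?_
        rw [Finset.mem_Icc] at hr
        congr 1
        refine Finset.sum_congr rfl fun j _ => ?_
        split_ifs with hj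
        · apply ih (k - r) (by omega)
          have := sum_dn β j hj
          omega
        · rfl
      have hk' : (k : ℂ) ≠ 0 := by exact_mod_cast hk.ne'
      exact smul_right_injective A hk' h3

/-! ### Lowering -/

theorem D_prod {D : Derivation ℂ A A} {r : ℕ} (hD : ∀ s, 0 < s → D (P s) = if s = r then (r : A) else 0)
    (s : Multiset ℕ) (hpos : ∀ i ∈ s, 0 < i) :
    D (s.map P).prod = ((r * s.count r : ℕ) : A) * ((s.erase r).map P).prod := by
  induction s using Multiset.induction_on with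
  | empty => simp
  | cons a s ih =>
    rw [Multiset.map_cons, Multiset.prod_cons, Derivation.leibniz, ih fun i hi => hpos i (Multiset.mem_cons_of_mem hi),
      hD a (hpos a (Multiset.mem_cons_self a s)), smul_eq_mul, smul_eq_mul]
    by_cases h : a = r
    · subst h
      rw [if_pos rfl, Multiset.count_cons_self, Multiset.erase_cons_head]
      by_cases hs : a ∈ s
      · have h1 : P a * ((s.erase a).map P).prod = (s.map P).prod := by
          rw [← Multiset.prod_cons, ← Multiset.map_cons, Multiset.cons_erase hs]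
        push_cast
        linear_combination ((a : A) * (Multiset.count a s : A)) * h1
      · rw [Multiset.count_eq_zero.mpr hs]
        push_cast
        ring
    · rw [if_neg h, Multiset.count_cons_of_ne (Ne.symm h), mul_zero, add_zero,
        Multiset.erase_cons_tail _ (by simpa using h), Multiset.map_cons, Multiset.prod_cons]
      ring

theorem D_SS {D : Derivation ℂ A A} {r : ℕ} (hr : 0 < r)
    (hD : ∀ s, 0 < s → D (P s) = if s = r then (r : A) else 0) {k : ℕ} (hrk : r ≤ k) (β : Fin m → ℕ) :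
    D (SS P k β) = ∑ j, if r ≤ β j then SS P (k - r) (dn β j r) else 0 := by
  have h0 : D (SS P k β) = ZV k (fun s => ((r * s.count r : ℕ) : ℂ) •
      ((FM s β : ℂ) • ((s.erase r).map P).prod)) := by
    rw [SS, show D (ZV k fun s => (FM s β : ℂ) • (s.map P).prod) = (D : A →ₗ[ℂ] A) (ZV k fun s =>
      (FM s β : ℂ) • (s.map P).prod) from rfl, ZV_map]
    refine ZV_congr fun s _ hpos => ?_
    rw [map_smul, Derivation.coeFn_coe, D_prod P hD s hpos, smul_comm _ (FM s β : ℂ)]
    congr 1
    rw [Algebra.smul_def, map_natCast]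
  rw [h0, ZV_mark hr hrk]
  have h : ∀ j, (if r ≤ β j then SS P (k - r) (dn β j r) else 0) =
      ZV (k - r) (fun s => (if r ≤ β j then (FM s (dn β j r) : ℂ) else 0) • (s.map P).prod) := by
    intro j
    by_cases hj : r ≤ β j
    · simp only [if_pos hj]; rfl
    · simp only [if_neg hj, zero_smul]; exact (ZV_zero _).symm
  rw [Finset.sum_congr rfl fun j _ => h j, ← ZV_finsum]
  refine ZV_congr fun s _ _ => ?_
  rw [Multiset.erase_cons_head, FM_cons, ← Finset.sum_smul]
  congr 1
  push_cast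
  rfl

theorem D_SS_lt {D : Derivation ℂ A A} {r : ℕ}
    (hD : ∀ s, 0 < s → D (P s) = if s = r then (r : A) else 0) {k : ℕ} (hrk : k < r) (β : Fin m → ℕ) :
    D (SS P k β) = 0 := by
  rw [SS, show D (ZV k fun s => (FM s β : ℂ) • (s.map P).prod) = (D : A →ₗ[ℂ] A) (ZV k fun s =>
      (FM s β : ℂ) • (s.map P).prod) from rfl, ZV_map, ZV_congr (g := fun _ => 0), ZV_zero]
  intro s hs hpos
  have h1 : r ∉ s := fun h => by
    have := Multiset.le_sum_of_mem h
    omega
  rw [map_smul, Derivation.coeFn_coe, D_prod P hD s hpos, Multiset.count_eq_zero.mpr h1]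
  simp

theorem D_SS_zero {D : Derivation ℂ A A} (hD : ∀ s, 0 < s → D (P s) = 0) (k : ℕ) (β : Fin m → ℕ) :
    D (SS P k β) = 0 := by
  rw [SS, show D (ZV k fun s => (FM s β : ℂ) • (s.map P).prod) = (D : A →ₗ[ℂ] A) (ZV k fun s =>
      (FM s β : ℂ) • (s.map P).prod) from rfl, ZV_map, ZV_congr (g := fun _ => 0), ZV_zero]
  intro s hs hpos
  have h1 : D (s.map P).prod = 0 := by
    clear hs
    induction s using Multiset.induction_on with
    | empty => simp
    | cons a s ih =>
      rw [Multiset.map_cons, Multiset.prod_cons, Derivation.leibniz, ih fun i hi => hpos i (Multiset.mem_cons_of_mem hi),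
        hD a (hpos a (Multiset.mem_cons_self a s))]
      simp
  rw [map_smul, Derivation.coeFn_coe, h1, smul_zero]

/-! ### Raising -/

theorem mul_SS {r : ℕ} (hr : 0 < r) {k : ℕ} (hk : k + r ≤ m) (β : Fin m → ℕ) :
    P r * SS P k β = ∑ j, SS P (k + r) (up β j r) := by
  have h1 : ∑ j, SS P (k + r) (up β j r) = ZV (k + r) (fun s => ((r * s.count r : ℕ) : ℂ) •
      ((FM (s.erase r) β : ℂ) • (s.map P).prod)) := by
    unfold SS
    rw [← ZV_finsum]
    refine ZV_congr fun s hs hpos => ?_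
    rw [← Finset.sum_smul, smul_smul]
    congr 1
    have := raise_eq hr (m := m) (s := s) (by omega) hpos β
    exact_mod_cast congrArg (fun z : ℤ => (z : ℂ)) this
  rw [h1, ZV_mark hr (by omega), Nat.add_sub_cancel]
  have h2 := ZV_map (LinearMap.mulLeft ℂ (P r)) k (fun s => (FM s β : ℂ) • (s.map P).prod)
  rw [LinearMap.mulLeft_apply] at h2
  rw [SS, h2]
  refine ZV_congr fun s _ _ => ?_
  rw [map_smul, Multiset.erase_cons_head, Multiset.map_cons, Multiset.prod_cons]
  rfl

/-- **Expansion of the power sums.** -/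
theorem prod_eq_sum_SS {n : ℕ} (hn : n ≤ m) (κ : n.Partition) :
    (κ.parts.map P).prod = ∑ ν : n.Partition, (FM κ.parts (betaOf m ν.parts) : ℂ) • SS P n (betaOf m ν.parts) := by
  have h1 : ∀ ν : n.Partition, (FM κ.parts (betaOf m ν.parts) : ℂ) • SS P n (betaOf m ν.parts) =
      ∑ κ' : n.Partition, ((FM κ.parts (betaOf m ν.parts) : ℂ) * FM κ'.parts (betaOf m ν.parts)) •
        ((zz κ'.parts : ℂ)⁻¹ • (κ'.parts.map P).prod) := by
    intro ν
    rw [SS, ZV, Finset.smul_sum]
    refine Finset.sum_congr rfl fun κ' _ => ?_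
    rw [smul_smul, smul_smul, smul_smul]
    congr 1
    ring
  rw [Finset.sum_congr rfl fun ν _ => h1 ν, Finset.sum_comm]
  have h2 : ∀ κ' : n.Partition, ∑ ν : n.Partition, ((FM κ.parts (betaOf m ν.parts) : ℂ) *
      FM κ'.parts (betaOf m ν.parts)) • ((zz κ'.parts : ℂ)⁻¹ • (κ'.parts.map P).prod) =
      if κ = κ' then (κ'.parts.map P).prod else 0 := by
    intro κ'
    rw [← Finset.sum_smul]
    have h3 := column_ortho hn κ κ'
    have h4 : ∑ ν : n.Partition, ((FM κ.parts (betaOf m ν.parts) : ℂ) * FM κ'.parts (betaOf m ν.parts)) =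
        if κ = κ' then (zz κ.parts : ℂ) else 0 := by
      have h5 := congrArg (fun z : ℚ => (z : ℂ)) h3
      push_cast at h5
      rw [h5]
      split_ifs <;> simp
    rw [h4]
    split_ifs with h
    · subst h
      rw [smul_smul, mul_inv_cancel₀, one_smul]
      have : 0 < zz κ.parts := zz_pos fun i hi => κ.parts_pos hi
      exact_mod_cast this.ne'
    · rw [zero_smul]
  rw [Finset.sum_congr rfl fun κ' _ => h2 κ', Finset.sum_ite_eq, if_pos (Finset.mem_univ _)]

end SS

end Cfsg.Agent.H614.GLn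
end

-- part: H614/GLn/RSForm
section
/-!
# The Wick form of the standard model: adjoint derivations and orthonormality of the Schur products
-/

set_option autoImplicit false

open scoped ComplexConjugate

namespace Cfsg.Agent.H614.GLn.RSt

open MvPolynomial Cfsg.Agent.H614 Cfsg.Agent.H577.GLB.Std Cfsg.Agent.H614.GLn

section form

variable (Q : ℤ) (M : ℕ)

/-- the norm of a monomial -/
noncomputable def Nf (s : Var M →₀ ℕ) : ℂ := s.prod fun v e => (e.factorial : ℂ) * (H577.GLB.Std.zz Q M v : ℂ) ^ e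

theorem form_eq {P P' : RS M} {S : Finset (Var M →₀ ℕ)} (hS : P.support ⊆ S) :
    form Q M P P' = ∑ s ∈ S, P.coeff s * conj (P'.coeff s) * Nf Q M s := by
  unfold form
  refine Finset.sum_subset hS fun s _ hs => ?_
  rw [MvPolynomial.notMem_support_iff.1 hs, zero_mul, zero_mul]

theorem form_add_left (P P₁ P' : RS M) : form Q M (P + P₁) P' = form Q M P P' + form Q M P₁ P' := by
  classical
  have h1 : P.support ⊆ P.support ∪ P₁.support ∪ (P + P₁).support :=
    fun x hx => Finset.mem_union_left _ (Finset.mem_union_left _ hx)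
  have h2 : P₁.support ⊆ P.support ∪ P₁.support ∪ (P + P₁).support :=
    fun x hx => Finset.mem_union_left _ (Finset.mem_union_right _ hx)
  have h3 : (P + P₁).support ⊆ P.support ∪ P₁.support ∪ (P + P₁).support :=
    fun x hx => Finset.mem_union_right _ hx
  rw [form_eq Q M h1, form_eq Q M h2, form_eq Q M h3, ← Finset.sum_add_distrib]
  refine Finset.sum_congr rfl fun s _ => ?_
  rw [coeff_add]; ring

theorem form_smul_left (a : ℂ) (P P' : RS M) : form Q M (a • P) P' = a * form Q M P P' := by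
  classical
  have h1 : P.support ⊆ P.support ∪ (a • P).support := fun x hx => Finset.mem_union_left _ hx
  have h3 : (a • P).support ⊆ P.support ∪ (a • P).support := fun x hx => Finset.mem_union_right _ hx
  rw [form_eq Q M h1, form_eq Q M h3, Finset.mul_sum]
  refine Finset.sum_congr rfl fun s _ => ?_
  rw [coeff_smul, smul_eq_mul]; ring

theorem form_add_right (P P' P₁ : RS M) : form Q M P (P' + P₁) = form Q M P P' + form Q M P P₁ := by
  unfold form
  rw [← Finset.sum_add_distrib]
  refine Finset.sum_congr rfl fun s _ => ?_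
  rw [coeff_add, map_add]; ring

theorem form_smul_right (a : ℂ) (P P' : RS M) : form Q M P (a • P') = conj a * form Q M P P' := by
  unfold form
  rw [Finset.mul_sum]
  refine Finset.sum_congr rfl fun s _ => ?_
  rw [coeff_smul, smul_eq_mul, map_mul]; ring

theorem form_zero_left (P' : RS M) : form Q M 0 P' = 0 := by
  have := form_smul_left Q M 0 0 P'
  rwa [zero_smul, zero_mul] at this

theorem form_zero_right (P : RS M) : form Q M P 0 = 0 := by
  have := form_smul_right Q M 0 P 0
  rwa [zero_smul, map_zero, zero_mul] at this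

theorem form_sum_left {ι : Type*} (t : Finset ι) (f : ι → RS M) (P' : RS M) :
    form Q M (∑ i ∈ t, f i) P' = ∑ i ∈ t, form Q M (f i) P' := by
  classical
  induction t using Finset.induction_on with
  | empty => rw [Finset.sum_empty, Finset.sum_empty, form_zero_left]
  | insert a s ha ih => rw [Finset.sum_insert ha, Finset.sum_insert ha, form_add_left, ih]

theorem form_sum_right {ι : Type*} (t : Finset ι) (f : ι → RS M) (P : RS M) :
    form Q M P (∑ i ∈ t, f i) = ∑ i ∈ t, form Q M P (f i) := by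
  classical
  induction t using Finset.induction_on with
  | empty => rw [Finset.sum_empty, Finset.sum_empty, form_zero_right]
  | insert a s ha ih => rw [Finset.sum_insert ha, Finset.sum_insert ha, form_add_right, ih]

theorem form_monomial_left (s : Var M →₀ ℕ) (a : ℂ) (P' : RS M) :
    form Q M (monomial s a) P' = a * conj (P'.coeff s) * Nf Q M s := by
  classical
  rw [form_eq Q M (S := {s}) support_monomial_subset, Finset.sum_singleton, coeff_monomial, if_pos rfl]

theorem Nf_add (s : Var M →₀ ℕ) (v : Var M) :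
    Nf Q M (s + Finsupp.single v 1) = Nf Q M s * ((s v : ℂ) + 1) * H577.GLB.Std.zz Q M v := by
  classical
  have h0 : ∀ v : Var M, (((0 : ℕ).factorial : ℂ) * (H577.GLB.Std.zz Q M v : ℂ) ^ 0) = 1 := by intro v; simp
  unfold Nf
  rw [Finsupp.prod_of_support_subset (s + Finsupp.single v 1) (s := insert v s.support) ?_ _ (fun i _ => h0 i),
    Finsupp.prod_of_support_subset s (s := insert v s.support) (Finset.subset_insert _ _) _ (fun i _ => h0 i),
    ← Finset.mul_prod_erase _ _ (Finset.mem_insert_self v s.support),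
    ← Finset.mul_prod_erase _ (fun i => ((s i).factorial : ℂ) * (H577.GLB.Std.zz Q M i : ℂ) ^ s i)
      (Finset.mem_insert_self v s.support)]
  · have h1 : ∏ x ∈ (insert v s.support).erase v, (((s + Finsupp.single v 1 : Var M →₀ ℕ) x).factorial : ℂ) *
        (H577.GLB.Std.zz Q M x : ℂ) ^ ((s + Finsupp.single v 1 : Var M →₀ ℕ) x) =
        ∏ x ∈ (insert v s.support).erase v, ((s x).factorial : ℂ) * (H577.GLB.Std.zz Q M x : ℂ) ^ s x := by
      refine Finset.prod_congr rfl fun x hx => ?_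
      rw [Finsupp.add_apply, Finsupp.single_eq_of_ne (Finset.ne_of_mem_erase hx), add_zero]
    rw [h1, Finsupp.add_apply, Finsupp.single_eq_same, Nat.factorial_succ, pow_succ]
    push_cast
    ring
  · intro x hx
    rw [Finsupp.mem_support_iff, Finsupp.add_apply] at hx
    rw [Finset.mem_insert]
    by_cases h : x = v
    · exact Or.inl h
    · right
      rw [Finsupp.single_eq_of_ne h, add_zero] at hx
      exact Finsupp.mem_support_iff.2 hx

/-- the adjoint of the multiplication by the variable `v` -/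
noncomputable def Dv (v : Var M) : Derivation ℂ (RS M) (RS M) := (H577.GLB.Std.zz Q M v : ℂ) • pderiv v

theorem Dv_apply (v : Var M) (P : RS M) : Dv Q M v P = (H577.GLB.Std.zz Q M v : ℂ) • pderiv v P := rfl

/-- **Adjointness.** -/
theorem form_X_mul (v : Var M) (P P' : RS M) : form Q M (X v * P) P' = form Q M P (Dv Q M v P') := by
  induction P using MvPolynomial.induction_on' with
  | monomial s a =>
    rw [X, monomial_mul, one_mul, form_monomial_left, form_monomial_left, add_comm, Nf_add, Dv_apply, coeff_smul,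
      coeff_pderiv, smul_eq_mul]
    simp only [map_mul, map_add, map_one, Complex.conj_natCast]
    ring
  | add P P₁ h h₁ => rw [mul_add, form_add_left, form_add_left, h, h₁]

theorem form_mul_adj {x : RS M} {E : Derivation ℂ (RS M) (RS M)}
    (h : ∀ P P' : RS M, form Q M (x * P) P' = form Q M P (E P')) (P P' : RS M) :
    form Q M (x * P) P' = form Q M P (E P') := h P P'

end form

/-! ### Labels -/

section labels

variable {Q : ℤ} {M : ℕ} [NeZero M]

theorem exists_pow_eq_one (hQ : IsUnit (Q : ZMod M)) : ∃ N : ℕ, 0 < N ∧ (Q : ZMod M) ^ N = 1 := by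
  obtain ⟨w, hw⟩ := hQ
  refine ⟨orderOf w, orderOf_pos w, ?_⟩
  rw [← hw, ← Units.val_pow_eq_pow_val, pow_orderOf_eq_one, Units.val_one]

theorem sameZ_refl (c : ZMod M) : SameZ Q M c c := ⟨0, by simp⟩

theorem SameZ.symm' (hQ : IsUnit (Q : ZMod M)) {c c' : ZMod M} (h : SameZ Q M c c') : SameZ Q M c' c := by
  obtain ⟨j, rfl⟩ := h
  obtain ⟨N, hN, h1⟩ := exists_pow_eq_one hQ
  refine ⟨N * j - j, ?_⟩
  rw [← mul_assoc, ← pow_add, Nat.sub_add_cancel (Nat.le_mul_of_pos_left j hN), pow_mul, h1, one_pow, one_mul]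

theorem SameZ.trans' {c c' c'' : ZMod M} (h : SameZ Q M c c') (h' : SameZ Q M c' c'') : SameZ Q M c c'' := by
  obtain ⟨j, rfl⟩ := h
  obtain ⟨k, rfl⟩ := h'
  exact ⟨k + j, by rw [pow_add, mul_assoc]⟩

theorem sameZ_canon (c : ZMod M) : SameZ Q M c (canon Q M c) := by
  have h := Nat.sInf_mem (s := {n : ℕ | ∃ j : ℕ, n = ((Q : ZMod M) ^ j * c).val}) ⟨_, 0, rfl⟩
  obtain ⟨j, hj⟩ := h
  refine ⟨j, ?_⟩
  rw [canon, hj, ZMod.natCast_zmod_val]

theorem canon_eq_of_same (hQ : IsUnit (Q : ZMod M)) {c c' : ZMod M} (h : SameZ Q M c c') :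
    canon Q M c = canon Q M c' := by
  rw [canon, canon]
  congr 2
  ext n
  constructor
  · rintro ⟨j, rfl⟩
    obtain ⟨k, hk⟩ := SameZ.symm' hQ h
    exact ⟨j + k, by rw [hk, pow_add, mul_assoc]⟩
  · rintro ⟨j, rfl⟩
    obtain ⟨k, hk⟩ := h
    exact ⟨j + k, by rw [hk, pow_add, mul_assoc]⟩

theorem canon_canon (hQ : IsUnit (Q : ZMod M)) (c : ZMod M) : canon Q M (canon Q M c) = canon Q M c :=
  (canon_eq_of_same hQ (sameZ_canon c)).symm

theorem canon_eq_iff (hQ : IsUnit (Q : ZMod M)) {c c' : ZMod M} :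
    canon Q M c = canon Q M c' ↔ SameZ Q M c c' := by
  refine ⟨fun h => ?_, canon_eq_of_same hQ⟩
  have h1 := sameZ_canon (Q := Q) c
  rw [h] at h1
  exact SameZ.trans' h1 (SameZ.symm' hQ (sameZ_canon c'))

theorem iter_mul (j : ℕ) (c : ZMod M) : (fun x : ZMod M => (Q : ZMod M) * x)^[j] c = (Q : ZMod M) ^ j * c := by
  induction j with
  | zero => simp
  | succ j ih => rw [Function.iterate_succ_apply', ih, pow_succ', mul_assoc]

theorem perZ_pos (hQ : IsUnit (Q : ZMod M)) (c : ZMod M) : 0 < perZ Q M c := by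
  obtain ⟨N, hN, h1⟩ := exists_pow_eq_one hQ
  refine Function.IsPeriodicPt.minimalPeriod_pos hN ?_
  rw [Function.IsPeriodicPt, Function.IsFixedPt, iter_mul, h1, one_mul]

theorem pow_mul_eq_iff (j : ℕ) (c : ZMod M) : (Q : ZMod M) ^ j * c = c ↔ perZ Q M c ∣ j := by
  rw [perZ, ← Function.isPeriodicPt_iff_minimalPeriod_dvd, Function.IsPeriodicPt, Function.IsFixedPt, iter_mul]

theorem torZ_iff (k : ℕ) (c : ZMod M) : TorZ Q M k c ↔ perZ Q M c ∣ k := by
  rw [TorZ, sub_mul, one_mul, sub_eq_zero, pow_mul_eq_iff]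

theorem perZ_of_same (hQ : IsUnit (Q : ZMod M)) {c c' : ZMod M} (h : SameZ Q M c c') :
    perZ Q M c = perZ Q M c' := by
  have key : ∀ {c c' : ZMod M}, SameZ Q M c c' → perZ Q M c' ∣ perZ Q M c := by
    intro c c' h
    obtain ⟨j, rfl⟩ := h
    rw [← pow_mul_eq_iff, mul_left_comm, (pow_mul_eq_iff _ c).2 dvd_rfl]
  exact Nat.dvd_antisymm (key (SameZ.symm' hQ h)) (key h)

theorem zz_eq' (hQ : IsUnit (Q : ZMod M)) {k : ℕ} {c : ZMod M} (h : TorZ Q M k c) :
    perZ Q M c * H577.GLB.Std.zz Q M (k, c) = k := by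
  obtain ⟨l, rfl⟩ := (torZ_iff k c).1 h
  congr 1
  rw [H577.GLB.Std.zz]
  simp only [pow_mul_eq_iff]
  have h0 := perZ_pos hQ c
  have h1 : (Finset.range (perZ Q M c * l)).filter (fun x => perZ Q M c ∣ x) =
      (Finset.range l).image (fun x => perZ Q M c * x) := by
    ext x
    simp only [Finset.mem_filter, Finset.mem_range, Finset.mem_image]
    constructor
    · rintro ⟨hx, y, rfl⟩
      exact ⟨y, lt_of_mul_lt_mul_left hx (Nat.zero_le _), rfl⟩
    · rintro ⟨y, hy, rfl⟩
      exact ⟨Nat.mul_lt_mul_of_pos_left hy h0, dvd_mul_right _ _⟩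
  rw [h1, Finset.card_image_of_injective _ (fun a b hab => Nat.eq_of_mul_eq_mul_left h0 hab), Finset.card_range]

variable (Q M) in
/-- the representatives of the labels -/
noncomputable def repsZ : Finset (ZMod M) := by
  classical exact Finset.univ.filter fun c => canon Q M c = c

theorem mem_repsZ {c : ZMod M} : c ∈ repsZ Q M ↔ canon Q M c = c := by
  classical
  rw [repsZ, Finset.mem_filter]; simp

theorem canon_mem_repsZ (hQ : IsUnit (Q : ZMod M)) (c : ZMod M) : canon Q M c ∈ repsZ Q M :=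
  mem_repsZ.2 (canon_canon hQ c)

theorem Pw_eq {c : ZMod M} (hQ : IsUnit (Q : ZMod M)) (hc : c ∈ repsZ Q M) {j : ℕ} (hj : 0 < j) :
    Pw Q M j c = X (j * perZ Q M c, c) := by
  rw [Pw, rv, if_pos ⟨Nat.mul_pos hj (perZ_pos hQ c), (torZ_iff _ c).2 (dvd_mul_left _ _)⟩, mem_repsZ.1 hc]

theorem zz_Pw {c : ZMod M} (hQ : IsUnit (Q : ZMod M)) (j : ℕ) :
    H577.GLB.Std.zz Q M (j * perZ Q M c, c) = j := by
  have h := zz_eq' hQ ((torZ_iff (j * perZ Q M c) c).2 (dvd_mul_left _ _))
  rw [mul_comm j] at h ⊢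
  exact Nat.eq_of_mul_eq_mul_left (perZ_pos hQ c) h

/-- the lowering derivation of the label `c` -/
noncomputable def DP (Q : ℤ) (M : ℕ) (r : ℕ) (c : ZMod M) : Derivation ℂ (RS M) (RS M) :=
  Dv Q M (r * perZ Q M c, c)

theorem DP_Pw {c c' : ZMod M} (hQ : IsUnit (Q : ZMod M)) (hc : c ∈ repsZ Q M) (hc' : c' ∈ repsZ Q M)
    {r : ℕ} (s : ℕ) (hs : 0 < s) :
    DP Q M r c (Pw Q M s c') = if c' = c ∧ s = r then (r : RS M) else 0 := by
  rw [Pw_eq hQ hc' hs, DP, Dv_apply, pderiv_X, zz_Pw hQ]
  by_cases h : c' = c ∧ s = r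
  · obtain ⟨rfl, rfl⟩ := h
    rw [if_pos ⟨rfl, rfl⟩, Pi.single_eq_same, Algebra.smul_def, mul_one, map_natCast]
  · rw [if_neg h, Pi.single_eq_of_ne, smul_zero]
    intro h1
    apply h
    have h2 := (Prod.ext_iff.1 h1).2
    have h3 := (Prod.ext_iff.1 h1).1
    dsimp only at h2 h3
    subst h2
    exact ⟨rfl, (Nat.eq_of_mul_eq_mul_right (perZ_pos hQ c') h3)⟩

theorem form_Pw_mul {c : ZMod M} (hQ : IsUnit (Q : ZMod M)) (hc : c ∈ repsZ Q M) {r : ℕ} (hr : 0 < r)
    (P P' : RS M) : form Q M (Pw Q M r c * P) P' = form Q M P (DP Q M r c P') := by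
  rw [Pw_eq hQ hc hr, form_X_mul]; rfl

end labels

end Cfsg.Agent.H614.GLn.RSt
end
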