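import Cfsg.Agent.H112.GLB.Gb3
import Cfsg.Agent.H614.GLn.Labels
import Cfsg.Agent.H139.Cusp.Orth
import Mathlib.RingTheory.MvPolynomial.Symmetric.Defs
import Cfsg.Agent.H421.GLn.NeckRS
import Cfsg.Agent.H623.GLn.Real
import Cfsg.Agent.H501.GLn.Ext
import Cfsg.Agent.H614.GLn.IrrLab
set_option linter.all false

-- part: H421/GLn/Esymm
section
/-!
# Elementary symmetric functions of the lifted eigenvalues, values of `Rf`
-/

set_option autoImplicit false

open Polynomial

namespace Cfsg.Agent.H421.GLn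

open Cfsg.Agent.H139.Cusp Cfsg.Agent.H614.GLn

universe u w

section esymm

variable {R : Type*} [CommRing R]

theorem esymm_cons (a : R) (s : Multiset R) (n : ℕ) :
    (a ::ₘ s).esymm (n + 1) = s.esymm (n + 1) + a * s.esymm n := by
  rw [Multiset.esymm, Multiset.powersetCard_cons, Multiset.map_add, Multiset.sum_add, Multiset.esymm,
    Multiset.esymm, Multiset.map_map, ← Multiset.sum_map_mul_left]
  congr 3
  funext x
  simp

theorem esymm_zero (s : Multiset R) : s.esymm 0 = 1 := by
  rw [Multiset.esymm, Multiset.powersetCard_zero_left]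
  simp

theorem esymm_zero_left (n : ℕ) : (0 : Multiset R).esymm n = if n = 0 then 1 else 0 := by
  cases n with
  | zero => rw [esymm_zero, if_pos rfl]
  | succ n => rw [Multiset.esymm, Multiset.powersetCard_zero_right, if_neg (Nat.succ_ne_zero n)]; simp

theorem esymm_eq_zero {s : Multiset R} {n : ℕ} (h : s.card < n) : s.esymm n = 0 := by
  rw [Multiset.esymm, Multiset.powersetCard_eq_empty n h]
  simp

theorem esymm_add (s t : Multiset R) (n : ℕ) :
    (s + t).esymm n = ∑ y ∈ Finset.HasAntidiagonal.antidiagonal n, s.esymm y.1 * t.esymm y.2 := by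
  induction s using Multiset.induction_on generalizing n with
  | empty =>
    rw [zero_add, Finset.sum_eq_single (0, n)]
    · rw [esymm_zero, one_mul]
    · intro y hy hne
      rw [Finset.HasAntidiagonal.mem_antidiagonal] at hy
      rw [esymm_zero_left, if_neg, zero_mul]
      intro h
      exact hne (Prod.ext h (by simp only; omega))
    · intro h
      rw [Finset.HasAntidiagonal.mem_antidiagonal] at h
      simp at h
  | cons a s ih =>
    cases n with
    | zero => simp [esymm_zero]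
    | succ n =>
      rw [Multiset.cons_add, esymm_cons, ih, ih, Finset.Nat.antidiagonal_succ, Finset.sum_cons, Finset.sum_map,
        Finset.sum_cons, Finset.sum_map]
      simp only [esymm_zero, one_mul, Function.Embedding.prodMap, Function.Embedding.coeFn_mk, Prod.map_fst,
        Prod.map_snd, Function.Embedding.refl_apply, esymm_cons]
      rw [Finset.mul_sum, add_assoc, ← Finset.sum_add_distrib]
      congr 1
      refine Finset.sum_congr rfl fun y _ => ?_
      show s.esymm (y.1 + 1) * _ + _ = _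
      ring

end esymm

section periodic

/-- multisets of periodic sequences -/
theorem range_map_mul {A : Type*} {g : ℕ → A} {d : ℕ} (hg : ∀ i, g (i + d) = g i) (m : ℕ) :
    (Multiset.range (d * m)).map g = m • (Multiset.range d).map g := by
  induction m with
  | zero => simp
  | succ m ih =>
    rw [Nat.mul_succ, succ_nsmul, ← ih, Multiset.range_add, Multiset.map_add, Multiset.map_map]
    congr 1
    refine Multiset.map_congr rfl fun i _ => ?_
    rw [Function.comp_apply]
    clear ih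
    induction m with
    | zero => simp
    | succ m ih => rw [← ih, Nat.mul_succ, ← hg (d * m + i)]; congr 1; ring

theorem range_map_shift {A : Type*} {g : ℕ → A} {k : ℕ} (hg : ∀ i, g (i + k) = g i) (j : ℕ) :
    (Multiset.range k).map (fun i => g (j + i)) = (Multiset.range k).map g := by
  induction j with
  | zero => simp
  | succ j ih =>
    rw [← ih]
    have h1 : (Multiset.range (k + 1)).map (fun i => g (j + i)) =
        g (j + k) ::ₘ (Multiset.range k).map (fun i => g (j + i)) := by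
      rw [Multiset.range_succ, Multiset.map_cons]
    have h2 : (Multiset.range (k + 1)).map (fun i => g (j + i)) =
        g j ::ₘ (Multiset.range k).map (fun i => g (j + 1 + i)) := by
      rw [add_comm k 1, Multiset.range_add, Multiset.map_add, Multiset.map_map]
      rw [Multiset.range_succ, Multiset.range_zero, Multiset.map_cons, Multiset.map_zero, add_zero,
        Multiset.cons_zero, Multiset.singleton_add]
      congr 1
      refine Multiset.map_congr rfl fun i _ => ?_
      rw [Function.comp_apply, add_assoc]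
    rw [h1, hg] at h2
    exact (Multiset.cons_inj_right _).1 h2.symm

end periodic

section roots

variable {F : Type u} [Field F] {K : Type w} [Field K] [Algebra F K] {θ : K →*₀ ℂ} {N M : ℕ}

/-- the roots of an irreducible polynomial -/
theorem roots_irr (hc : Ctx F θ N M) {f : F[X]} (hf : f.Monic) (hirr : Irreducible f) (hN : f.natDegree ≤ N) :
    ∃ α : K, (f.map (algebraMap F K)).roots = (Multiset.range f.natDegree).map (fun i => α ^ (Nat.card F ^ i)) ∧
      α ^ (Nat.card F ^ f.natDegree) = α ∧ (f.coeff 0 = 0 ↔ α = 0) := by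
  have := hc.finF
  have := hc.finK
  have hs := hc.spl f hf hN
  have hdeg : (f.map (algebraMap F K)).degree ≠ 0 := by
    rw [degree_map]
    exact (degree_pos_of_irreducible hirr).ne'
  obtain ⟨α, hα⟩ := hs.exists_eval_eq_zero hdeg
  rw [eval_map_algebraMap] at hα
  have hmin : f = minpoly F α := minpoly.eq_of_irreducible_of_monic hirr hα hf
  refine ⟨α, ?_, ?_, ?_⟩
  · rw [hmin]
    exact roots_minpoly α
  · rw [pow_eq_self_iff, hmin]
  · constructor
    · intro h
      rw [hmin] at h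
      have h1 := (minpoly.coeff_zero_eq_zero (integral_of_finite (F := F) α)).1 h
      exact h1
    · rintro rfl
      rw [hmin]
      exact (minpoly.coeff_zero_eq_zero (integral_of_finite (F := F) (0 : K))).2 rfl

open Classical in
/-- value of `lba` -/
theorem lba_irr (hc : Ctx F θ N M) {f : F[X]} {α : K}
    (hr : (f.map (algebraMap F K)).roots = (Multiset.range f.natDegree).map (fun i => α ^ (Nat.card F ^ i)))
    (a : ℕ) : lba θ a f = if α = 0 then 0 else ∑ i ∈ Finset.range f.natDegree, θ α ^ (Nat.card F ^ i * a) := by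
  have := hc.finF
  rw [lba, hr, Multiset.map_map]
  by_cases h : α = 0
  · rw [if_pos h]
    apply Multiset.sum_eq_zero
    intro x hx
    rw [Multiset.mem_map] at hx
    obtain ⟨i, _, rfl⟩ := hx
    rw [Function.comp_apply, h, zero_pow (Nat.pow_pos Nat.card_pos).ne', if_pos rfl]
  · rw [if_neg h]
    show _ = (Multiset.map (fun i => θ α ^ (Nat.card F ^ i * a)) (Multiset.range f.natDegree)).sum
    congr 1
    refine Multiset.map_congr rfl fun i _ => ?_
    rw [Function.comp_apply, if_neg (pow_ne_zero _ h), map_pow, ← pow_mul]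

theorem lba_congr (hc : Ctx F θ N M) {f : F[X]} (hf : f.Monic) (hirr : Irreducible f) {k : ℕ}
    (hk : 0 < k) (hkN : k ≤ N) (hdk : f.natDegree ∣ k) {a b : ℕ} (hab : Nat.card F * a ≡ b [MOD Nat.card F ^ k - 1]) :
    lba θ a f = lba θ b f := by
  have := hc.finF
  obtain ⟨α, hr, hα, -⟩ := roots_irr hc hf hirr ((Nat.le_of_dvd hk hdk).trans hkN)
  rw [lba_irr hc hr, lba_irr hc hr]
  by_cases h : α = 0
  · rw [if_pos h, if_pos h]
  rw [if_neg h, if_neg h]
  have hθ : θ α ≠ 0 := (map_ne_zero θ).2 h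
  have h1 : θ α ^ (Nat.card F ^ f.natDegree) = θ α := by rw [← map_pow, hα]
  have h2 : θ α ^ (Nat.card F ^ k) = θ α := by
    obtain ⟨m, rfl⟩ := hdk
    rw [pow_mul]
    clear hk hkN hab
    induction m with
    | zero => simp
    | succ m ih => rw [pow_succ, pow_mul, ih, h1]
  have h3 : θ α ^ (Nat.card F ^ k - 1) = 1 := by
    have h4 : 1 ≤ Nat.card F ^ k := Nat.one_le_pow _ _ Nat.card_pos
    have h5 : θ α ^ (Nat.card F ^ k - 1) * θ α = 1 * θ α := by
      rw [← pow_succ, Nat.sub_add_cancel h4, h2, one_mul]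
    exact mul_right_cancel₀ hθ h5
  have h4 : ∀ {c e : ℕ}, c ≡ e [MOD Nat.card F ^ k - 1] → θ α ^ c = θ α ^ e := by
    intro c e hce
    rw [pow_eq_pow_mod c h3, pow_eq_pow_mod e h3, hce]
  -- the sum for `q a`
  have h5 : ∑ i ∈ Finset.range f.natDegree, θ α ^ (Nat.card F ^ i * (Nat.card F * a)) =
      ∑ i ∈ Finset.range f.natDegree, θ α ^ (Nat.card F ^ i * a) := by
    have h6 := Finset.sum_range_succ' (fun i => θ α ^ (Nat.card F ^ i * a)) f.natDegree
    have h7 := Finset.sum_range_succ (fun i => θ α ^ (Nat.card F ^ i * a)) f.natDegree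
    rw [h7] at h6
    have h8 : θ α ^ (Nat.card F ^ f.natDegree * a) = θ α ^ (Nat.card F ^ 0 * a) := by
      rw [pow_mul, h1, pow_zero, one_mul]
    rw [h8] at h6
    have h9 := add_right_cancel h6
    rw [h9]
    refine Finset.sum_congr rfl fun i _ => ?_
    congr 1
    ring
  rw [← h5]
  refine Finset.sum_congr rfl fun i _ => h4 ?_
  exact hab.mul_left _

/-- **Frobenius invariance** of the primitive families. -/
theorem inv_Rf (hc : Ctx F θ N M) : ∀ k a b, 0 < k → k ≤ N →
    Nat.card F * a ≡ b [MOD Nat.card F ^ k - 1] → (Rf θ k a : Fam F) = Rf θ k b := by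
  intro k a b hk hkN hab
  have := hc.finF
  refine Fam.ext' fun V _ _ _ T => ?_
  rw [Rf, Rf, comp_fn, comp_fn]
  by_cases hV : Module.finrank F V = k
  · rw [if_pos hV, if_pos hV, kapF_fn, kapF_fn]
    refine kap_congr_B (lba_add θ a) (lba_add θ b) (fun f hf hirr hdvd => ?_) T
    rw [hV] at hdvd
    exact lba_congr hc hf hirr hk hkN hdvd hab
  · rw [if_neg hV, if_neg hV]

/-- kap at a primary endomorphism -/
theorem exists_kap [Finite F] {V : Type u} [AddCommGroup V] [Module F V] [Finite V] {T : V →ₗ[F] V} {f : F[X]}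
    {m : ℕ} (hf : f.Monic) (hirr : Irreducible f) (hm : 0 < m) (hfm : T.charpoly = f ^ m) :
    ∃ c : ℂ, ∀ B : F[X] → ℂ, Add B → kap B T ⊤ = B f * c := by
  obtain ⟨k, hk⟩ := exists_finrank_ker hirr (g := T) (by rw [hfm]; exact dvd_pow_self f hm.ne')
  exact ⟨_, fun B hB => kap_formula B hB hf hirr (aeval_pow_of_charpoly hfm) hk⟩

end roots

end Cfsg.Agent.H421.GLn
end

-- part: H421/GLn/NeckGL
section
/-!
# G6: the complete homogeneous elements of a label are virtual characters
-/

set_option autoImplicit false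

open Polynomial

namespace Cfsg.Agent.H421.GLn

open Cfsg.Agent.H139.Cusp Cfsg.Agent.H614.GLn Cfsg.Agent.H577.GLB.Std Cfsg.Agent.H623.GLn
open Cfsg.Agent.H941.GLn (VCle)

universe u w

attribute [local instance] fintypeHom fintypeSub finite_quot

variable {F : Type u} [Field F] {K : Type w} [Field K] [Algebra F K] {θ : K →*₀ ℂ} {N M : ℕ}

open Classical in
/-- elementary symmetric functions of the lifts of the `x`-th powers of the eigenvalues -/
noncomputable def Ex (F : Type u) [Field F] [Algebra F K] (θ : K →*₀ ℂ) (x r : ℕ) : F[X] → ℂ := fun p =>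
  if p.coeff 0 = 0 then 0 else ((p.map (algebraMap F K)).roots.map (fun y => θ y ^ x)).esymm r

theorem Ex_mul (x r : ℕ) (p q : F[X]) (hp : p.Monic) (hq : q.Monic) :
    Ex F θ x r (p * q) = ∑ y ∈ Finset.HasAntidiagonal.antidiagonal r, Ex F θ x y.1 p * Ex F θ x y.2 q := by
  rw [Ex, mul_coeff_zero]
  by_cases h1 : p.coeff 0 = 0
  · rw [h1, zero_mul, if_pos rfl]
    symm
    refine Finset.sum_eq_zero fun y _ => ?_
    rw [Ex, if_pos h1, zero_mul]
  by_cases h2 : q.coeff 0 = 0
  · rw [h2, mul_zero, if_pos rfl]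
    symm
    refine Finset.sum_eq_zero fun y _ => ?_
    rw [Ex, Ex, if_pos h2, mul_zero]
  rw [if_neg (mul_ne_zero h1 h2), Polynomial.map_mul,
    roots_mul (mul_ne_zero (hp.map _).ne_zero (hq.map _).ne_zero), Multiset.map_add, esymm_add]
  refine Finset.sum_congr rfl fun y _ => ?_
  rw [Ex, Ex, if_neg h1, if_neg h2]

/-- the degree as a complex valued function -/
noncomputable def dg (F : Type u) [Field F] : F[X] → ℂ := fun p => (p.natDegree : ℂ)

theorem dg_add : Add (dg F) := natDegree_add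

/-- the realization of the power sum with exponent `a` -/
noncomputable def Pgl (F : Type u) [Field F] [Algebra F K] (θ : K →*₀ ℂ) (M : ℕ) (k : ℕ) (a : ℤ) : Fam F :=
  piA θ M (Prs (Nat.card F : ℤ) M k a)

theorem Pgl_nat [NeZero M] (hc : Ctx F θ N M) {k : ℕ} (hk : 0 < k) (hkN : k ≤ N) (a : ℕ) :
    Pgl F θ M k (a : ℤ) = Rf θ k a := by
  have := hc.finF
  have h2 : 2 ≤ Nat.card F := Finite.one_lt_card
  have h1 : 1 ≤ Nat.card F ^ k := Nat.one_le_pow _ _ Nat.card_pos
  obtain ⟨L, hL⟩ : ∃ L, Nat.card F ^ k = L + 1 := ⟨Nat.card F ^ k - 1, by omega⟩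
  have hL0 : 0 < L := by
    have : 2 ≤ Nat.card F ^ k := le_trans h2 (Nat.le_self_pow hk.ne' _)
    omega
  obtain ⟨t, ht⟩ : L ∣ M := by
    have := hc.dvd k hk hkN
    rwa [hL, Nat.add_sub_cancel] at this
  have hLZ : ((Nat.card F : ℤ)) ^ k - 1 = (L : ℤ) := by
    have : ((Nat.card F : ℤ)) ^ k = ((Nat.card F ^ k : ℕ) : ℤ) := by push_cast; rfl
    rw [this, hL]
    push_cast
    ring
  have hdiv : (M : ℤ) / (L : ℤ) = t := by
    rw [ht]
    push_cast
    exact Int.mul_ediv_cancel_left _ (by exact_mod_cast hL0.ne')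
  have ht0 : 0 < t := by
    rcases Nat.eq_zero_or_pos t with h | h
    · exfalso
      rw [h, mul_zero] at ht
      exact NeZero.ne M ht
    · exact h
  set c : ZMod M := (((a : ℤ) * ((M : ℤ) / ((Nat.card F : ℤ) ^ k - 1)) : ℤ) : ZMod M) with hcdef
  have hc1 : c = ((a * t : ℕ) : ZMod M) := by
    rw [hcdef, hLZ, hdiv]
    push_cast
    rfl
  have hT : TorZ (Nat.card F : ℤ) M k c := by
    rw [TorZ, hc1]
    have h3 : ((Nat.card F : ℤ) : ZMod M) ^ k - 1 = ((L : ℕ) : ZMod M) := by
      have := congrArg (fun z : ℤ => (z : ZMod M)) hLZ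
      push_cast at this
      rw [← this]
      push_cast
      rfl
    rw [h3, ← Nat.cast_mul, show L * (a * t) = a * (L * t) by ring, ← ht, Nat.cast_mul, ZMod.natCast_self, mul_zero]
  rw [Pgl, Prs, piA_rv hc hk hkN hT, Rc]
  have h4 : expo (Nat.card F) M k c = a % L := by
    rw [expo, hc1, ZMod.val_natCast, hL, Nat.add_sub_cancel]
    conv_lhs => rw [ht, Nat.mul_mod_mul_right]
    rw [show a % L * t * L = a % L * (L * t) by ring, Nat.mul_div_cancel _ (Nat.mul_pos hL0 ht0)]
  rw [h4]
  refine Rf_congr hc hk hkN (j := 0) ?_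
  rw [pow_zero, mul_one, hL, Nat.add_sub_cancel]
  exact Nat.mod_modEq a L

theorem sum_subsets {y : ℂ} {q d m x r : ℕ} (hy : y ^ (q ^ d) = y) :
    ∑ S ∈ (Finset.range (d * m)).powersetCard r, ∑ j ∈ Finset.range d, y ^ (q ^ j * (x * ∑ i ∈ S, q ^ i)) =
      d * (m • (Multiset.range d).map (fun i => y ^ (q ^ i * x))).esymm r := by
  classical
  set g : ℕ → ℂ := fun i => y ^ (q ^ i * x) with hg
  have hper : ∀ i, g (i + d) = g i := by
    intro i
    simp only [hg]
    rw [pow_add, mul_comm (q ^ i), mul_assoc, pow_mul, hy]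
  have hperk : ∀ i, g (i + d * m) = g i := by
    intro i
    induction m with
    | zero => simp
    | succ m ih => rw [Nat.mul_succ, ← add_assoc, hper, ih]
  rw [Finset.sum_comm]
  have h1 : ∀ j ∈ Finset.range d, ∑ S ∈ (Finset.range (d * m)).powersetCard r,
      y ^ (q ^ j * (x * ∑ i ∈ S, q ^ i)) = (m • (Multiset.range d).map g).esymm r := by
    intro j _
    rw [← range_map_mul hper, ← range_map_shift hperk j, ← Finset.range_val, Finset.esymm_map_val]
    refine Finset.sum_congr rfl fun S _ => ?_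
    simp only [hg]
    rw [Finset.prod_pow_eq_pow_sum]
    congr 1
    rw [Finset.mul_sum, Finset.mul_sum]
    refine Finset.sum_congr rfl fun i _ => ?_
    rw [pow_add]
    ring
  rw [Finset.sum_congr rfl h1, Finset.sum_const, Finset.card_range, nsmul_eq_mul]

theorem QQ_Rf [NeZero M] (hc : Ctx F θ N M) {x k r : ℕ} (hk : 0 < k) (hkN : k ≤ N) :
    (QQ (Nat.card F : ℤ) (Pgl F θ M) (x : ℤ) k).coeff r =
      pw (Ex F θ x r) (comp k (kapF (dg F))) := by
  classical
  have := hc.finF
  rw [QQ_coeff']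
  have hnat : ∀ S : Finset ℕ, (x : ℤ) * ∑ i ∈ S, (Nat.card F : ℤ) ^ i = ((x * ∑ i ∈ S, Nat.card F ^ i : ℕ) : ℤ) := by
    intro S
    push_cast
    rfl
  simp only [hnat, Pgl_nat hc hk hkN]
  refine Fam.ext' fun V _ _ _ T => ?_
  rw [sum_fn, pw_fn, comp_fn]
  by_cases hV : Module.finrank F V = k
  swap
  · rw [if_neg hV, mul_zero]
    refine Finset.sum_eq_zero fun S _ => ?_
    rw [Rf, comp_fn, if_neg hV]
  rw [if_pos hV, kapF_fn]
  have hnt : Nontrivial V := by
    rw [← Module.finrank_pos_iff (R := F), hV]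
    exact hk
  have hR : ∀ a, (Rf θ k a : Fam F).fn V T = kap (lba θ a) T ⊤ := by
    intro a
    rw [Rf, comp_fn, if_pos hV, kapF_fn]
  simp only [hR]
  by_cases hex : ∃ (f : F[X]) (m : ℕ), f.Monic ∧ Irreducible f ∧ 0 < m ∧ T.charpoly = f ^ m
  swap
  · have h0 : ∀ B : F[X] → ℂ, Add B → kap B T ⊤ = 0 := by
      intro B hB
      rcases kap_eq_zero_or B hB T with h | h
      · exact absurd h hex
      · exact h
    rw [h0 _ dg_add, mul_zero]
    exact Finset.sum_eq_zero fun S _ => h0 _ (lba_add θ _)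
  obtain ⟨f, m, hf, hirr, hm, hfm⟩ := hex
  obtain ⟨c, hcc⟩ := exists_kap hf hirr hm hfm
  have hdk : f.natDegree * m = k := by
    rw [← hV, ← LinearMap.charpoly_natDegree T, hfm, natDegree_pow, mul_comm]
  have hdN : f.natDegree ≤ N := le_trans (by rw [← hdk]; exact Nat.le_mul_of_pos_right _ hm) hkN
  obtain ⟨α, hr, hα, h0⟩ := roots_irr hc hf hirr hdN
  rw [hcc _ dg_add, hfm]
  have hval : ∀ a, kap (lba θ a) T ⊤ = lba θ a f * c := fun a => hcc _ (lba_add θ a)
  simp only [hval]
  rw [← Finset.sum_mul]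
  by_cases hα0 : α = 0
  · have h1 : (f ^ m).coeff 0 = 0 := by
      rw [coeff_zero_eq_eval_zero, eval_pow, ← coeff_zero_eq_eval_zero, h0.2 hα0, zero_pow hm.ne']
    rw [Ex, if_pos h1, zero_mul]
    have h2 : ∀ a, lba θ a f = 0 := fun a => by rw [lba_irr hc hr, if_pos hα0]
    simp only [h2]
    rw [Finset.sum_const_zero, zero_mul]
  · have h1 : (f ^ m).coeff 0 ≠ 0 := by
      rw [coeff_zero_eq_eval_zero, eval_pow, ← coeff_zero_eq_eval_zero]
      exact pow_ne_zero _ (fun h => hα0 (h0.1 h))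
    have h2 : ∀ a, lba θ a f = ∑ i ∈ Finset.range f.natDegree, θ α ^ (Nat.card F ^ i * a) := fun a => by
      rw [lba_irr hc hr, if_neg hα0]
    simp only [h2]
    have hθ : θ α ^ (Nat.card F ^ f.natDegree) = θ α := by rw [← map_pow, hα]
    rw [← hdk, sum_subsets hθ, Ex, if_neg h1, Polynomial.map_pow, roots_pow, Multiset.map_nsmul, hr,
      Multiset.map_map]
    have h3 : (Multiset.map ((fun y => θ y ^ x) ∘ fun i => α ^ Nat.card F ^ i) (Multiset.range f.natDegree)) =
        (Multiset.range f.natDegree).map (fun i => θ α ^ (Nat.card F ^ i * x)) := by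
      refine Multiset.map_congr rfl fun i _ => ?_
      rw [Function.comp_apply, map_pow, ← pow_mul]
    rw [h3, dg]
    ring

theorem natCast_mul_fn (n : ℕ) (f : Fam F) (V : Type u) [AddCommGroup V] [Module F V] (T : V →ₗ[F] V) :
    ((n : Fam F) * f).fn V T = n * f.fn V T := by
  induction n with
  | zero => rw [Nat.cast_zero, zero_mul, Fam.zero_fn, Nat.cast_zero, zero_mul]
  | succ n ih => rw [Nat.cast_succ, add_mul, one_mul, Fam.add_fn, ih]; push_cast; ring

theorem comp_pw (n : ℕ) (B : F[X] → ℂ) (f : Fam F) : comp n (pw B f) = pw B (comp n f) := by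
  refine Fam.ext' fun V _ _ _ T => ?_
  rw [comp_fn, pw_fn, pw_fn, comp_fn]
  split_ifs <;> ring

theorem comp_sum {ι : Type*} (n : ℕ) (s : Finset ι) (φ : ι → Fam F) :
    comp n (∑ y ∈ s, φ y) = ∑ y ∈ s, comp n (φ y) := by
  refine Fam.ext' fun V _ _ _ T => ?_
  rw [comp_fn, sum_fn, sum_fn]
  by_cases h : Module.finrank F V = n
  · rw [if_pos h]
    exact Finset.sum_congr rfl fun y _ => by rw [comp_fn, if_pos h]
  · rw [if_neg h]
    symm
    exact Finset.sum_eq_zero fun y _ => by rw [comp_fn, if_neg h]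

/-- the families of elementary symmetric functions -/
noncomputable def EE (F : Type u) [Field F] [Algebra F K] (θ : K →*₀ ℂ) (x r n : ℕ) : Fam F :=
  comp n (grp (Ex F θ x r))

theorem EE_zero (x : ℕ) : (EE F θ x 0 0 : Fam F) = 1 := by
  refine Fam.ext' fun V _ _ _ T => ?_
  rw [EE, comp_fn, grp_fn]
  by_cases h : Subsingleton V
  · have h1 : Module.finrank F V = 0 := Module.finrank_zero_of_subsingleton
    rw [if_pos h1, Fam.one_fn]
    have h2 : T.charpoly = 1 := by
      apply eq_one_of_monic_natDegree_zero (LinearMap.charpoly_monic T)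
      rw [LinearMap.charpoly_natDegree, h1]
    rw [h2, Ex, if_neg, esymm_zero]
    rw [coeff_one_zero]
    exact one_ne_zero
  · rw [Fam.one_fn' _ h, if_neg]
    intro h1
    exact h (Module.finrank_zero_iff.1 h1)

theorem EE_eq_zero {x r n : ℕ} (h : n < r) : (EE F θ x r n : Fam F) = 0 := by
  refine Fam.ext' fun V _ _ _ T => ?_
  rw [EE, comp_fn, grp_fn, Fam.zero_fn]
  split_ifs with h1
  · rw [Ex]
    split_ifs
    · rfl
    · apply esymm_eq_zero
      rw [Multiset.card_map]
      refine lt_of_le_of_lt (card_roots' _) ?_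
      rw [natDegree_map, LinearMap.charpoly_natDegree, h1]
      exact h
  · rfl

theorem EE_newton (x r n : ℕ) : (n : Fam F) * EE F θ x r n =
    ∑ y ∈ Finset.HasAntidiagonal.antidiagonal r, ∑ z ∈ Finset.HasAntidiagonal.antidiagonal n,
      EE F θ x y.1 z.1 * comp z.2 (pw (Ex F θ x y.2) (kapF (dg F))) := by
  have h1 : (∑ y ∈ Finset.HasAntidiagonal.antidiagonal r, grp (Ex F θ x y.1) * pw (Ex F θ x y.2) (kapF (dg F))) =
      pw (dg F) (grp (Ex F θ x r)) := by
    refine Fam.ext' fun V _ _ _ T => ?_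
    rw [grp_mul_kap (B := Ex F θ x r) (dg F) T (fun p q hp hq => Ex_mul x r p q hp hq), pw_fn, grp_fn, mul_comm]
  have h2 : (n : Fam F) * EE F θ x r n = comp n (pw (dg F) (grp (Ex F θ x r))) := by
    refine Fam.ext' fun V _ _ _ T => ?_
    rw [natCast_mul_fn, EE, comp_fn, comp_fn, pw_fn, grp_fn]
    split_ifs with h
    · rw [dg, LinearMap.charpoly_natDegree, h]
    · rw [mul_zero]
  rw [h2, ← h1, comp_sum]
  refine Finset.sum_congr rfl fun y _ => ?_
  rw [comp_mul]
  rfl

theorem comp_zero_kap (hc : Ctx F θ N M) (x r : ℕ) : comp 0 (pw (Ex F θ x r) (kapF (dg F))) = 0 := by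
  have := hc.finF
  refine Fam.ext' fun V _ _ _ T => ?_
  rw [comp_fn, Fam.zero_fn]
  split_ifs with h
  · have h1 : (⊤ : Submodule F V) = ⊥ := by
      have : Subsingleton V := Module.finrank_zero_iff.1 h
      exact Subsingleton.elim _ _
    rw [pw_fn, kapF_fn, h1, kap_bot _ dg_add, mul_zero]
  · rfl

/-- the polynomial of the elementary symmetric functions -/
noncomputable def EP (F : Type u) [Field F] [Algebra F K] (θ : K →*₀ ℂ) (x n : ℕ) : Polynomial (Fam F) :=
  ∑ r ∈ Finset.range (n + 1), monomial r (EE F θ x r n)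

theorem EP_coeff (x n r : ℕ) : (EP F θ x n).coeff r = EE F θ x r n := by
  rw [EP, finsetSum_coeff]
  simp only [coeff_monomial]
  by_cases h : r < n + 1
  · rw [Finset.sum_eq_single r]
    · rw [if_pos rfl]
    · intro b _ hb
      rw [if_neg hb]
    · intro h1
      exact absurd (Finset.mem_range.2 h) h1
  · rw [EE_eq_zero (by omega)]
    refine Finset.sum_eq_zero fun b hb => ?_
    rw [if_neg]
    rintro rfl
    exact h (Finset.mem_range.1 hb)

/-- **Newton**: the exterior powers are the Newton sequence of the necklace power sums. -/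
theorem newt_QQ [NeZero M] (hc : Ctx F θ N M) (x : ℕ) : ∀ n ≤ N,
    newt (QQ (Nat.card F : ℤ) (Pgl F θ M) (x : ℤ)) n = EP F θ x n := by
  intro n hn
  symm
  refine newt_unique (N := N) ?_ ?_ n hn
  · rw [EP, zero_add, Finset.range_one, Finset.sum_singleton, EE_zero, monomial_zero_left, map_one]
  · intro n hn
    ext1 r
    rw [← C_eq_natCast, coeff_C_mul, EP_coeff, EE_newton, finsetSum_coeff, Finset.sum_comm]
    rw [← Finset.Nat.sum_antidiagonal_swap, Finset.Nat.sum_antidiagonal_eq_sum_range_succ_mk,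
      Finset.sum_range_succ']
    have h0 : ∑ y ∈ Finset.HasAntidiagonal.antidiagonal r,
        EE F θ x y.1 (n - 0) * comp 0 (pw (Ex F θ x y.2) (kapF (dg F))) = 0 :=
      Finset.sum_eq_zero fun y _ => by rw [comp_zero_kap hc, mul_zero]
    simp only [Prod.swap_prod_mk]
    rw [h0, add_zero]
    refine Finset.sum_congr rfl fun i hi => ?_
    rw [Finset.mem_range] at hi
    rw [coeff_mul, ← Finset.Nat.sum_antidiagonal_swap]
    refine Finset.sum_congr rfl fun y _ => ?_
    rw [Prod.fst_swap, Prod.snd_swap, QQ_Rf hc (Nat.succ_pos i) (by omega), EP_coeff, mul_comm, comp_pw,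
      show n - (i + 1) = n - 1 - i by omega]

theorem En_map (n k : ℕ) (x : ℤ) : piA θ M (En (Nat.card F : ℤ) M n k x) =
    (newt (QQ (Nat.card F : ℤ) (Pgl F θ M) x) n).coeff k := by
  have h1 := newt_map (Polynomial.mapAlgHom (piA (F := F) θ M)) (QQ (Nat.card F : ℤ) (Prs (Nat.card F : ℤ) M) x) n
  have h2 : ∀ i, Polynomial.mapAlgHom (piA (F := F) θ M) (QQ (Nat.card F : ℤ) (Prs (Nat.card F : ℤ) M) x i) =
      QQ (Nat.card F : ℤ) (Pgl F θ M) x i := by
    intro i
    rw [QQ, QQ, map_sum]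
    refine Finset.sum_congr rfl fun S _ => ?_
    rw [coe_mapAlgHom, map_monomial]
    rfl
  simp only [h2] at h1
  rw [← h1, En, coe_mapAlgHom, coeff_map]
  rfl

/-- the realization of the exterior powers -/
theorem piA_En [NeZero M] (hc : Ctx F θ N M) {n : ℕ} (hn : n ≤ N) (k x : ℕ) :
    piA θ M (En (Nat.card F : ℤ) M n k (x : ℤ)) = H614.GLn.comp n (grp (Ex F θ x k)) := by
  rw [En_map, newt_QQ hc x n hn, EP_coeff, EE]

theorem En_congr {Q : ℤ} {M N : ℕ} [NeZero M] (hdvd : ∀ k, 0 < k → k ≤ N → Q ^ k - 1 ∣ (M : ℤ)) {n : ℕ} (hn : n ≤ N)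
    (k : ℕ) {x x' : ℤ} (h : x ≡ x' [ZMOD (M : ℤ)]) : En Q M n k x = En Q M n k x' := by
  rw [En, En]
  congr 1
  refine newt_congr (N := n) (fun i hi0 hin => ?_) n le_rfl
  rw [QQ, QQ]
  refine Finset.sum_congr rfl fun S _ => ?_
  congr 1
  rw [Prs, Prs]
  congr 1
  have h3 : (Q ^ i - 1) * ((M : ℤ) / (Q ^ i - 1)) = M := Int.mul_ediv_cancel' (hdvd i hi0 (hin.trans hn))
  obtain ⟨t, ht⟩ := h.dvd
  rw [← sub_eq_zero, ← Int.cast_sub, ZMod.intCast_zmod_eq_zero_iff_dvd]
  refine ⟨-(t * (∑ j ∈ S, Q ^ j) * ((M : ℤ) / (Q ^ i - 1))), ?_⟩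
  linear_combination (-(∑ j ∈ S, Q ^ j) * ((M : ℤ) / (Q ^ i - 1))) * ht

theorem hdvd_of_ctx (hc : Ctx F θ N M) : ∀ k, 0 < k → k ≤ N → (Nat.card F : ℤ) ^ k - 1 ∣ (M : ℤ) := by
  intro k hk hkN
  have := hc.finF
  have h := hc.dvd k hk hkN
  have h1 : 1 ≤ Nat.card F ^ k := Nat.one_le_pow _ _ Nat.card_pos
  have h2 : (Nat.card F : ℤ) ^ k - 1 = ((Nat.card F ^ k - 1 : ℕ) : ℤ) := by
    rw [Nat.cast_sub h1]
    push_cast
    rfl
  rw [h2]
  exact_mod_cast h

/-- the exterior powers are virtual characters -/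
theorem vc_En [NeZero M] (hc : Ctx F θ N M) {n : ℕ} (hn : n ≤ N) (k : ℕ) (x : ℤ) :
    IsVC (piA (F := F) θ M (En (Nat.card F : ℤ) M n k x)) := by
  have hM : (0 : ℤ) < M := by exact_mod_cast NeZero.pos M
  have h1 : x ≡ ((x % M).toNat : ℤ) [ZMOD (M : ℤ)] := by
    rw [Int.toNat_of_nonneg (Int.emod_nonneg _ hM.ne')]
    exact (Int.mod_modEq x M).symm
  rw [En_congr (hdvd_of_ctx hc) hn k h1, piA_En hc hn]
  exact H501.GLn.isVC_eB θ hc _ k hn

/-- the subring of families of generalized characters -/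
def vcR (F : Type u) [Field F] : Subring (Fam F) where
  carrier := {f | IsVC f}
  mul_mem' := H941.GLn.isVC_mul
  one_mem' := H941.GLn.isVC_one
  add_mem' := H941.GLn.isVC_add
  zero_mem' := H941.GLn.isVC_zero
  neg_mem' := H941.GLn.isVC_neg

/-- the subring of the standard model realized by families of generalized characters -/
noncomputable def vcRS (F : Type u) [Field F] [Algebra F K] (θ : K →*₀ ℂ) (M : ℕ) : Subring (RS M) :=
  (vcR F).comap (piA (F := F) θ M : RS M →+* Fam F)

theorem mem_vcRS {x : RS M} : x ∈ vcRS F θ M ↔ IsVC (piA (F := F) θ M x) := Iff.rfl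

theorem isUnit_q (hc : Ctx F θ N M) : IsUnit (((Nat.card F : ℤ)) : ZMod M) := by
  have := hc.finF
  have := hc.finK
  have h1 : Nat.card K = Nat.card F ^ Module.finrank F K := Module.natCard_eq_pow_finrank
  have h2 : Nat.card Kˣ = Nat.card K - 1 := Nat.card_units K
  have h3 : M + 1 = Nat.card F ^ Module.finrank F K := by
    have h4 : 0 < Nat.card K := Nat.card_pos
    have h5 := hc.card
    omega
  have h6 : 0 < Module.finrank F K := Module.finrank_pos
  have h7 : ((Nat.card F : ℕ) : ZMod M) ^ Module.finrank F K = 1 := by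
    have := congrArg (fun z : ℕ => (z : ZMod M)) h3
    push_cast at this
    rw [ZMod.natCast_self, zero_add] at this
    exact this.symm
  have h8 : IsUnit (((Nat.card F : ℕ)) : ZMod M) := IsUnit.of_pow_eq_one h7 h6.ne'
  exact_mod_cast h8

/-- **G6**: the complete homogeneous elements of a label of level `d` are virtual characters. -/
theorem hRS_vc [NeZero M] (hc : Ctx F θ N M) {d : ℕ} (hd : 0 < d) {c : ZMod M}
    (hT : TorZ (Nat.card F : ℤ) M d c) {j : ℕ} (hj : j * d ≤ N) :
    IsVC (piA (F := F) θ M (hRS (Nat.card F : ℤ) M d c j)) :=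
  mem_vcRS.1 (hRS_mem (isUnit_q hc) (hdvd_of_ctx hc) (vcRS F θ M)
    (fun n k x hn => mem_vcRS.2 (vc_En hc hn k x)) hd hT hj)

/-- the same for the explicit Newton sequence of the class functions `R_{id}(c)` -/
theorem piA_hRS [NeZero M] (hc : Ctx F θ N M) {d : ℕ} (hd : 0 < d) {c : ZMod M}
    (hT : TorZ (Nat.card F : ℤ) M d c) {j : ℕ} (hj : j * d ≤ N) :
    piA (F := F) θ M (hRS (Nat.card F : ℤ) M d c j) = newt (fun i => Rc θ M (i * d) c) j := by
  rw [hRS, newt_map]
  refine newt_congr (N := j) (fun i hi0 hij => ?_) j le_rfl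
  refine piA_rv hc (Nat.mul_pos hi0 hd) (le_trans (Nat.mul_le_mul_right d hij) hj) ?_
  rw [TorZ] at hT ⊢
  obtain ⟨y, hy⟩ : (((Nat.card F : ℤ)) : ZMod M) ^ d - 1 ∣ (((Nat.card F : ℤ)) : ZMod M) ^ (i * d) - 1 := by
    rw [mul_comm, pow_mul]
    simpa using sub_dvd_pow_sub_pow ((((Nat.card F : ℤ)) : ZMod M) ^ d) 1 i
  rw [hy, mul_right_comm, hT, zero_mul]

end Cfsg.Agent.H421.GLn
end

-- part: H614/GLn/GB1
section
/-!
# GB1: the labels of the irreducible characters of `GL_n(F)`
-/

set_option autoImplicit false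

namespace Cfsg.Agent.H577.GLB.Real

open Cfsg Cfsg.Agent Cfsg.Agent.H614.GLn Cfsg.Agent.H614.GLn.RSt Cfsg.Agent.H577.GLB.Std

universe u w

variable {F : Type u} [Field F] {K : Type w} [Field K] [Algebra F K] {θ : K →*₀ ℂ} {N M : ℕ} [NeZero M]

theorem hInt (ctx : Ctx F θ N M) : HInt F θ N M := by
  intro c j hj
  have hp := perZ_pos (Q := (Nat.card F : ℤ)) (H112.GLB.isUnit_card ctx) c
  have ht : TorZ (Nat.card F : ℤ) M (perZ (Nat.card F : ℤ) M c) c := (torZ_iff _ _).2 dvd_rfl
  have h := H421.GLn.hRS_vc ctx hp ht hj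
  rwa [H421.GLn.piA_hRS ctx hp ht hj] at h

/-- GB1: labels of irreducible characters -/
theorem isLab_bij (hctx : Ctx F θ N M) {m n : ℕ} (hn : n ≤ N) (hm : n ≤ m) :
    (∀ χ : IrrCharacter (GL (Fin n) F), ∃! t : LabZ (Nat.card F) M m n, IsLab θ M m n χ t) ∧
    (∀ t : LabZ (Nat.card F) M m n, ∃! χ : IrrCharacter (GL (Fin n) F), IsLab θ M m n χ t) :=
  isLab_bij_of hctx (hInt hctx) hn hm

end Cfsg.Agent.H577.GLB.Real
end
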