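import Cfsg.Agent.H614.GLn.LabHom
import Cfsg.Agent.H505.S4536.DC.Deg
import Cfsg.Agent.H623.GLn.D4C
import Cfsg.Agent.H577.GLB.Fam
set_option linter.all false

/-!
# Labels over one orbit and powers of the cuspidal variable

* `oneLab` : the label with the tuple `β` over the orbit of `δ₀`;
* `SchP_oneLab`, `SchP_onlyOn` : its product is a Schur function;
* `form_SchP_X_pow` (C2a), `X_pow_mem_span` (C2b), `SchP_mem_PGen` (C2c).
-/

set_option autoImplicit false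

open scoped ComplexConjugate

namespace Cfsg.Agent.H614.GLn.RSt

open MvPolynomial Cfsg.Agent.H614 Cfsg.Agent.H577.GLB.Std Cfsg.Agent.H614.GLn
open Cfsg.Agent.H577.GLB.Real (OnlyOn PGen)

variable {Q : ℤ} {M : ℕ} [NeZero M] {m : ℕ}

theorem eq_vac {β : Fin m → ℕ} (hβ : StrictMono β) (h : H577.GLB.Std.bsz β = 0) : β = fun i : Fin m => (i : ℕ) := by
  have h1 := sum_eq_bsz hβ
  rw [h, zero_add] at h1
  have h2 : ∀ i ∈ (Finset.univ : Finset (Fin m)), (i : ℕ) = β i :=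
    (Finset.sum_eq_sum_iff_of_le fun i _ => strictMono_le hβ i).1 h1.symm
  exact funext fun i => (h2 i (Finset.mem_univ i)).symm

theorem bsz_vac : H577.GLB.Std.bsz (fun i : Fin m => (i : ℕ)) = 0 := by
  rw [H577.GLB.Std.bsz, Nat.sub_self]

theorem SS_vac {A : Type*} [CommRing A] [Algebra ℂ A] (P : ℕ → A) : SS P 0 (fun i : Fin m => (i : ℕ)) = 1 := by
  rw [SS_zero_eq, vac_eq_pair, pair_self_of_strictMono (fun i j h => h)]
  simp

/-- the Schur function of a label over one orbit -/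
theorem SchP_onlyOn (hQ : IsUnit (Q : ZMod M)) {n : ℕ} (t : LabZ Q M m n) {δ₀ : ZMod M} (h : OnlyOn Q M δ₀ t.t) :
    SchP Q M t.t = SS (fun j => Pw Q M j (canon Q M δ₀)) (H577.GLB.Std.bsz (t.t δ₀)) (t.t δ₀) := by
  rw [SchP_eq]
  unfold prodS
  rw [Finset.prod_eq_single (canon Q M δ₀)]
  · show SS _ (H577.GLB.Std.bsz (t.t (canon Q M δ₀))) _ = _
    rw [t_canon t.t t.orb]
  · intro c hc hne
    have h0 : H577.GLB.Std.bsz (t.t c) = 0 := by
      by_contra h1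
      apply hne
      rw [← mem_repsZ.1 hc]
      exact (canon_eq_of_same hQ (h c (Nat.pos_of_ne_zero h1))).symm
    show SS _ (H577.GLB.Std.bsz (t.t c)) _ = _
    rw [h0, eq_vac (t.mono c) h0, SS_vac]
  · intro h1
    exact absurd (canon_mem_repsZ hQ δ₀) h1

open Classical in
/-- the label with the tuple `β` over the orbit of `δ₀` -/
noncomputable def oneLab (hQ : IsUnit (Q : ZMod M)) (δ₀ : ZMod M) {β : Fin m → ℕ} (hβ : StrictMono β) {w : ℕ}
    (hw : H577.GLB.Std.bsz β = w) : LabZ Q M m (perZ Q M δ₀ * w) where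
  t c := if canon Q M c = canon Q M δ₀ then β else fun i => (i : ℕ)
  mono c := by
    split_ifs
    · exact hβ
    · exact fun i j h => h
  orb c := by rw [← canon_eq_of_same hQ (c := c) (c' := (Q : ZMod M) * c) ⟨1, by rw [pow_one]⟩]
  sum := by
    rw [← nuP_deg hQ (fun c => if canon Q M c = canon Q M δ₀ then β else fun i => (i : ℕ))]
    · rw [Finset.sum_eq_single (canon Q M δ₀)]
      · rw [if_pos (canon_canon hQ δ₀), hw, perZ_of_same hQ (sameZ_canon δ₀)]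
      · intro c hc hne
        rw [if_neg (by rw [mem_repsZ.1 hc]; exact hne), bsz_vac, mul_zero]
      · intro h1
        exact absurd (canon_mem_repsZ hQ δ₀) h1
    · intro c
      simp only [← canon_eq_of_same hQ (c := c) (c' := (Q : ZMod M) * c) ⟨1, by rw [pow_one]⟩]

theorem oneLab_t (hQ : IsUnit (Q : ZMod M)) (δ₀ : ZMod M) {β : Fin m → ℕ} (hβ : StrictMono β) {w : ℕ}
    (hw : H577.GLB.Std.bsz β = w) : (oneLab hQ δ₀ hβ hw).t δ₀ = β := by
  unfold oneLab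
  exact if_pos rfl

theorem oneLab_onlyOn (hQ : IsUnit (Q : ZMod M)) (δ₀ : ZMod M) {β : Fin m → ℕ} (hβ : StrictMono β) {w : ℕ}
    (hw : H577.GLB.Std.bsz β = w) : OnlyOn Q M δ₀ (oneLab hQ δ₀ hβ hw).t := by
  classical
  intro c hc
  unfold oneLab at hc
  by_cases h : canon Q M c = canon Q M δ₀
  · exact (canon_eq_iff hQ).1 h.symm
  · simp only [if_neg h, bsz_vac] at hc
    exact absurd hc (lt_irrefl 0)

theorem SchP_oneLab (hQ : IsUnit (Q : ZMod M)) (δ₀ : ZMod M) {β : Fin m → ℕ} (hβ : StrictMono β) {w : ℕ}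
    (hw : H577.GLB.Std.bsz β = w) :
    SchP Q M (oneLab hQ δ₀ hβ hw).t = SS (fun j => Pw Q M j (canon Q M δ₀)) w β := by
  rw [SchP_onlyOn hQ _ (oneLab_onlyOn hQ δ₀ hβ hw), oneLab_t, hw]

theorem X_eq_Pw (hQ : IsUnit (Q : ZMod M)) (δ₀ : ZMod M) :
    (X (perZ Q M δ₀, canon Q M δ₀) : RS M) = Pw Q M 1 (canon Q M δ₀) := by
  rw [Pw_eq hQ (canon_mem_repsZ hQ δ₀) one_pos, one_mul, ← perZ_of_same hQ (sameZ_canon δ₀)]

theorem X_pow_eq (hQ : IsUnit (Q : ZMod M)) (δ₀ : ZMod M) (w : ℕ) :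
    (X (perZ Q M δ₀, canon Q M δ₀) : RS M) ^ w =
      ((Multiset.replicate w 1).map fun j => Pw Q M j (canon Q M δ₀)).prod := by
  rw [Multiset.map_replicate, Multiset.prod_replicate, X_eq_Pw hQ]

/-- (C2b) -/
theorem X_pow_mem_span (hQ : IsUnit (Q : ZMod M)) (δ₀ : ZMod M) {w : ℕ} (hw : w ≤ m) :
    (X (perZ Q M δ₀, canon Q M δ₀) : RS M) ^ w ∈ Submodule.span ℂ {x | ∃ t : LabZ Q M m (perZ Q M δ₀ * w),
      OnlyOn Q M δ₀ t.t ∧ H577.GLB.Std.bsz (t.t δ₀) = w ∧ x = SchP Q M t.t} := by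
  rw [X_pow_eq hQ]
  have h := map_Pw_mem (Q := Q) (m := m) (canon Q M δ₀) (s := Multiset.replicate w 1)
    (fun j hj => by rw [Multiset.eq_of_mem_replicate hj]; exact one_pos)
    (by rw [Multiset.sum_replicate, smul_eq_mul, mul_one]; exact hw)
  rw [Multiset.sum_replicate, smul_eq_mul, mul_one] at h
  refine Submodule.span_mono ?_ h
  rintro x ⟨β, hβ, hs, rfl⟩
  have hb : H577.GLB.Std.bsz β = w := by rw [H577.GLB.Std.bsz, hs, Nat.add_sub_cancel]
  exact ⟨oneLab hQ δ₀ hβ hb, oneLab_onlyOn hQ δ₀ hβ hb, by rw [oneLab_t]; exact hb, (SchP_oneLab hQ δ₀ hβ hb).symm⟩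

theorem form_SS (hQ : IsUnit (Q : ZMod M)) {c : ZMod M} (hc : c ∈ repsZ Q M) {k l : ℕ} {β γ : Fin m → ℕ}
    (hβ : ∑ i, β i = k + ∑ i : Fin m, (i : ℕ)) (hγ : ∑ i, γ i = l + ∑ i : Fin m, (i : ℕ)) :
    form Q M (SS (fun j => Pw Q M j c) k β) (SS (fun j => Pw Q M j c) l γ) = (pair β γ : ℂ) := by
  have h := form_prodS hQ {c} (by simpa using hc) k (fun _ => k) (fun _ => l) (fun _ => β) (fun _ => γ)
    (fun _ _ => hβ) (fun _ _ => hγ) (by simp)
  unfold prodS at h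
  simpa using h

/-- (C2a) -/
theorem form_SchP_X_pow (hQ : IsUnit (Q : ZMod M)) {n : ℕ} (t : LabZ Q M m n) {δ₀ : ZMod M}
    (h : OnlyOn Q M δ₀ t.t) (hm : H577.GLB.Std.bsz (t.t δ₀) ≤ m) :
    form Q M (SchP Q M t.t) ((X (perZ Q M δ₀, canon Q M δ₀) : RS M) ^ H577.GLB.Std.bsz (t.t δ₀)) =
      (FM (Multiset.replicate (H577.GLB.Std.bsz (t.t δ₀)) 1) (t.t δ₀) : ℂ) := by
  classical
  set w := H577.GLB.Std.bsz (t.t δ₀) with hw
  have hsum : ∑ i, t.t δ₀ i = w + ∑ i : Fin m, (i : ℕ) := sum_eq_bsz (t.mono δ₀)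
  rw [SchP_onlyOn hQ t h, ← hw, X_pow_eq hQ]
  let κ : w.Partition := ⟨Multiset.replicate w 1, fun {j} hj => by rw [Multiset.eq_of_mem_replicate hj]; exact one_pos,
    by rw [Multiset.sum_replicate, smul_eq_mul, mul_one]⟩
  have h1 := prod_eq_sum_SS (P := fun j => Pw Q M j (canon Q M δ₀)) hm κ
  rw [show κ.parts = Multiset.replicate w 1 from rfl] at h1
  rw [h1, form_sum_right]
  obtain ⟨ν₀, hν₀⟩ := exists_betaOf hm (t.mono δ₀) hsum
  rw [Finset.sum_eq_single ν₀]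
  · rw [form_smul_right, ← hν₀, form_SS hQ (canon_mem_repsZ hQ δ₀) hsum hsum, pair_self_of_strictMono (t.mono δ₀)]
    simp
  · intro ν _ hne
    have hc := card_le_of_partition ν hm
    rw [form_smul_right, form_SS hQ (canon_mem_repsZ hQ δ₀) hsum (by rw [sum_betaOf hc, ν.parts_sum]),
      pair_eq_zero_of_strictMono (t.mono δ₀) (betaOf_strictMono hc)]
    · simp
    · intro h2
      apply hne
      have := betaOf_inj hc (card_le_of_partition ν₀ hm) (fun h => (ν.parts_pos h).ne rfl)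
        (fun h => (ν₀.parts_pos h).ne rfl) (h2.symm.trans hν₀)
      exact Nat.Partition.ext this
  · intro h2; exact absurd (Finset.mem_univ _) h2

/-- (C2a) -/
theorem form_SchP_X_pow_ne_zero (hQ : IsUnit (Q : ZMod M)) {n : ℕ} (t : LabZ Q M m n) {δ₀ : ZMod M}
    (h : OnlyOn Q M δ₀ t.t) (hm : H577.GLB.Std.bsz (t.t δ₀) ≤ m) :
    form Q M (SchP Q M t.t) ((X (perZ Q M δ₀, canon Q M δ₀) : RS M) ^ H577.GLB.Std.bsz (t.t δ₀)) ≠ 0 := by
  rw [form_SchP_X_pow hQ t h hm]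
  have := H505.S4536.DC.FM_ones_ne_zero (t.mono δ₀) (sum_eq_bsz (t.mono δ₀))
  exact_mod_cast this

/-- (C2c) -/
theorem SchP_mem_PGen {n p : ℕ} (t : LabZ Q M m n) (ht : POnly M p t.t) : SchP Q M t.t ∈ PGen Q M p := by
  rw [SchP_eq]
  unfold prodS
  refine Subalgebra.prod_mem _ fun c _ => ?_
  by_cases hc : PReg M p c
  · unfold SS ZV
    refine Subalgebra.sum_mem _ fun ν _ => Subalgebra.smul_mem _ (Subalgebra.smul_mem _ ?_ _) _
    refine Subalgebra.multiset_prod_mem _ fun x hx => ?_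
    obtain ⟨j, _, rfl⟩ := Multiset.mem_map.1 hx
    exact Algebra.subset_adjoin ⟨_, c, hc, rfl⟩
  · have h0 := ht c hc
    show SS _ (H577.GLB.Std.bsz (t.t c)) _ ∈ _
    rw [h0, eq_vac (t.mono c) h0, SS_vac]
    exact Subalgebra.one_mem _

end Cfsg.Agent.H614.GLn.RSt
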