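import Cfsg.Agent.H139.Cusp.Theta
set_option linter.all false

-- part: H614/GLn/Defs
section
/-!
# The Hall algebra of families of class functions on all `GL_n(F)` (all endomorphism monoids)

`Fam F` : functions `f (V, T)` of a finite `F`-space `V` and an endomorphism `T`, invariant under
isomorphism.  Product: `(f * g)(V, T) = ∑_{W ≤ V, T W ≤ W} f (V / W, T) g (W, T)`
(Harish-Chandra induction on each `GL_n`).
-/

set_option autoImplicit false

open Polynomial

namespace Cfsg.Agent.H614.GLn

universe u

/-- A family of class functions. -/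
structure Fam (F : Type u) [Field F] where
  /-- the value at `(V, T)` -/
  fn : (V : Type u) → [AddCommGroup V] → [Module F V] → (V →ₗ[F] V) → ℂ
  conj' : ∀ {V V' : Type u} [AddCommGroup V] [Module F V] [AddCommGroup V'] [Module F V']
    (e : V ≃ₗ[F] V') {T : V →ₗ[F] V} {T' : V' →ₗ[F] V'}, (∀ v, T' (e v) = e (T v)) → fn V' T' = fn V T
  fin' : ∀ {V : Type u} [AddCommGroup V] [Module F V] (T : V →ₗ[F] V), ¬ Finite V → fn V T = 0

variable {F : Type u} [Field F]

namespace Fam

@[ext] theorem ext' {f g : Fam F} (h : ∀ (V : Type u) [AddCommGroup V] [Module F V] [Finite V]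
    (T : V →ₗ[F] V), f.fn V T = g.fn V T) : f = g := by
  obtain ⟨f, hf, hf'⟩ := f
  obtain ⟨g, hg, hg'⟩ := g
  have : @f = @g := by
    funext V i1 i2 T
    by_cases hV : Finite V
    · exact h V T
    · rw [hf' T hV, hg' T hV]
  subst this
  rfl

instance : Zero (Fam F) := ⟨⟨fun _ _ _ _ => 0, fun _ _ _ _ => rfl, fun _ _ => rfl⟩⟩
instance : Add (Fam F) := ⟨fun f g => ⟨fun V _ _ T => f.fn V T + g.fn V T,
  fun e _ _ h => by rw [f.conj' e h, g.conj' e h], fun T h => by rw [f.fin' T h, g.fin' T h, add_zero]⟩⟩
instance : Neg (Fam F) := ⟨fun f => ⟨fun V _ _ T => - f.fn V T,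
  fun e _ _ h => by rw [f.conj' e h], fun T h => by rw [f.fin' T h, neg_zero]⟩⟩
instance : SMul ℂ (Fam F) := ⟨fun c f => ⟨fun V _ _ T => c * f.fn V T,
  fun e _ _ h => by rw [f.conj' e h], fun T h => by rw [f.fin' T h, mul_zero]⟩⟩

open Classical in
/-- the contribution of the subspace `W` to the Hall product -/
noncomputable def term (f g : Fam F) (V : Type u) [AddCommGroup V] [Module F V] (T : V →ₗ[F] V)
    (W : Submodule F V) : ℂ :=
  if h : W ≤ W.comap T then f.fn (V ⧸ W) (W.mapQ W T h) * g.fn W (T.restrict h) else 0

theorem term_of {f g : Fam F} {V : Type u} [AddCommGroup V] [Module F V] {T : V →ₗ[F] V}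
    {W : Submodule F V} (h : W ≤ W.comap T) :
    f.term g V T W = f.fn (V ⧸ W) (W.mapQ W T h) * g.fn W (T.restrict h) := dif_pos h

theorem term_of_not {f g : Fam F} {V : Type u} [AddCommGroup V] [Module F V] {T : V →ₗ[F] V}
    {W : Submodule F V} (h : ¬ W ≤ W.comap T) : f.term g V T W = 0 := dif_neg h

theorem term_conj (f g : Fam F) {V V' : Type u} [AddCommGroup V] [Module F V] [AddCommGroup V']
    [Module F V'] (e : V ≃ₗ[F] V') {T : V →ₗ[F] V} {T' : V' →ₗ[F] V'} (h : ∀ v, T' (e v) = e (T v))
    (W : Submodule F V) : f.term g V' T' (W.map (e : V →ₗ[F] V')) = f.term g V T W := by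
  have hst : W.map (e : V →ₗ[F] V') ≤ (W.map (e : V →ₗ[F] V')).comap T' ↔ W ≤ W.comap T := by
    constructor
    · intro h1 w hw
      obtain ⟨x, hx, hxe⟩ := h1 (Submodule.mem_map_of_mem hw)
      rw [LinearEquiv.coe_coe, h, e.injective.eq_iff] at hxe
      rw [Submodule.mem_comap, ← hxe]
      exact hx
    · rintro h1 _ ⟨w, hw, rfl⟩
      rw [Submodule.mem_comap, LinearEquiv.coe_coe, h]
      exact Submodule.mem_map_of_mem (f := (e : V →ₗ[F] V')) (h1 hw)
  by_cases hW : W ≤ W.comap T
  · rw [term_of hW, term_of (hst.2 hW)]
    congr 1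
    · refine f.conj' (Submodule.Quotient.equiv W (W.map (e : V →ₗ[F] V')) e rfl) ?_
      intro x
      obtain ⟨v, rfl⟩ := W.mkQ_surjective x
      simp [h]
    · refine g.conj' (e.submoduleMap W) ?_
      intro x
      apply Subtype.ext
      simp [h]
  · rw [term_of_not hW, term_of_not (fun h1 => hW (hst.1 h1))]

noncomputable instance : Mul (Fam F) := ⟨fun f g =>
  ⟨fun V _ _ T => ∑ᶠ W : Submodule F V, f.term g V T W, by
    intro V V' _ _ _ _ e T T' h
    rw [← finsum_comp_equiv (Submodule.orderIsoMapComap e).toEquiv]
    refine finsum_congr fun W => ?_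
    exact term_conj f g e h W, by
    intro V _ _ T hV
    rw [← finsum_zero (α := Submodule F V)]
    refine finsum_congr fun W => ?_
    by_cases hW : W ≤ W.comap T
    · rw [term_of hW]
      by_cases h1 : Finite W
      · by_cases h2 : Finite (V ⧸ W)
        · exfalso
          apply hV
          have : Finite (V ⧸ W.toAddSubgroup) := h2
          have : Finite W.toAddSubgroup := h1
          exact Finite.of_addSubgroup_quotient (H := W.toAddSubgroup)
        · rw [f.fin' _ h2, zero_mul]
      · rw [g.fin' _ h1, mul_zero]
    · exact term_of_not hW⟩⟩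

theorem mul_fn (f g : Fam F) (V : Type u) [AddCommGroup V] [Module F V] (T : V →ₗ[F] V) :
    (f * g).fn V T = ∑ᶠ W : Submodule F V, f.term g V T W := rfl

theorem mul_fn' (f g : Fam F) (V : Type u) [AddCommGroup V] [Module F V] [Fintype (Submodule F V)]
    (T : V →ₗ[F] V) : (f * g).fn V T = ∑ W : Submodule F V, f.term g V T W := by
  rw [mul_fn, finsum_eq_sum_of_fintype]

open Classical in
noncomputable instance : One (Fam F) := ⟨⟨fun V _ _ _ => if Subsingleton V then 1 else 0,
  fun e _ _ _ => by
    have := e.toEquiv.subsingleton_congr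
    simp only [this], fun {V} _ _ _ hV => by
    rw [if_neg]
    intro h
    exact hV inferInstance⟩⟩

end Fam

end Cfsg.Agent.H614.GLn
end

-- part: H614/GLn/Assoc
section
/-!
# The Hall product is associative
-/

set_option autoImplicit false

open Polynomial

namespace Cfsg.Agent.H614.GLn

universe u

variable {F : Type u} [Field F]

namespace Fam

section add

theorem zero_fn (V : Type u) [AddCommGroup V] [Module F V] (T : V →ₗ[F] V) : (0 : Fam F).fn V T = 0 := rfl
theorem add_fn (f g : Fam F) (V : Type u) [AddCommGroup V] [Module F V] (T : V →ₗ[F] V) :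
    (f + g).fn V T = f.fn V T + g.fn V T := rfl
theorem neg_fn (f : Fam F) (V : Type u) [AddCommGroup V] [Module F V] (T : V →ₗ[F] V) :
    (-f).fn V T = - f.fn V T := rfl
theorem smul_fn (c : ℂ) (f : Fam F) (V : Type u) [AddCommGroup V] [Module F V] (T : V →ₗ[F] V) :
    (c • f).fn V T = c * f.fn V T := rfl

noncomputable instance instAddCommGroup : AddCommGroup (Fam F) where
  add_assoc f g h := ext' fun V _ _ _ T => add_assoc _ _ _
  zero_add f := ext' fun V _ _ _ T => zero_add _
  add_zero f := ext' fun V _ _ _ T => add_zero _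
  add_comm f g := ext' fun V _ _ _ T => add_comm _ _
  neg_add_cancel f := ext' fun V _ _ _ T => neg_add_cancel _
  nsmul := nsmulRec
  zsmul := zsmulRec

noncomputable instance instModule : Module ℂ (Fam F) where
  one_smul f := ext' fun V _ _ _ T => one_mul _
  mul_smul a b f := ext' fun V _ _ _ T => mul_assoc _ _ _
  smul_zero a := ext' fun V _ _ _ T => mul_zero _
  smul_add a f g := ext' fun V _ _ _ T => mul_add _ _ _
  add_smul a b f := ext' fun V _ _ _ T => add_mul _ _ _
  zero_smul f := ext' fun V _ _ _ T => zero_mul _

end add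

section dist

variable (f f' g g' : Fam F) {V : Type u} [AddCommGroup V] [Module F V] (T : V →ₗ[F] V) (W : Submodule F V)

theorem term_add_left : (f + f').term g V T W = f.term g V T W + f'.term g V T W := by
  by_cases h : W ≤ W.comap T
  · rw [term_of h, term_of h, term_of h, add_fn, add_mul]
  · rw [term_of_not h, term_of_not h, term_of_not h, add_zero]

theorem term_add_right : f.term (g + g') V T W = f.term g V T W + f.term g' V T W := by
  by_cases h : W ≤ W.comap T
  · rw [term_of h, term_of h, term_of h, add_fn, mul_add]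
  · rw [term_of_not h, term_of_not h, term_of_not h, add_zero]

theorem term_smul_left (c : ℂ) : (c • f).term g V T W = c * f.term g V T W := by
  by_cases h : W ≤ W.comap T
  · rw [term_of h, term_of h, smul_fn, mul_assoc]
  · rw [term_of_not h, term_of_not h, mul_zero]

theorem term_smul_right (c : ℂ) : f.term (c • g) V T W = c * f.term g V T W := by
  by_cases h : W ≤ W.comap T
  · rw [term_of h, term_of h, smul_fn, mul_left_comm]
  · rw [term_of_not h, term_of_not h, mul_zero]

theorem add_mul' : (f + f') * g = f * g + f' * g := by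
  refine Fam.ext' fun V _ _ _ T => ?_
  have := Fintype.ofFinite (Submodule F V)
  rw [add_fn, mul_fn', mul_fn', mul_fn', ← Finset.sum_add_distrib]
  exact Finset.sum_congr rfl fun W _ => term_add_left f f' g T W

theorem mul_add' : f * (g + g') = f * g + f * g' := by
  refine Fam.ext' fun V _ _ _ T => ?_
  have := Fintype.ofFinite (Submodule F V)
  rw [add_fn, mul_fn', mul_fn', mul_fn', ← Finset.sum_add_distrib]
  exact Finset.sum_congr rfl fun W _ => term_add_right f g g' T W

theorem smul_mul' (c : ℂ) : (c • f) * g = c • (f * g) := by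
  refine Fam.ext' fun V _ _ _ T => ?_
  have := Fintype.ofFinite (Submodule F V)
  rw [smul_fn, mul_fn', mul_fn', Finset.mul_sum]
  exact Finset.sum_congr rfl fun W _ => term_smul_left f g T W c

theorem mul_smul' (c : ℂ) : f * (c • g) = c • (f * g) := by
  refine Fam.ext' fun V _ _ _ T => ?_
  have := Fintype.ofFinite (Submodule F V)
  rw [smul_fn, mul_fn', mul_fn', Finset.mul_sum]
  exact Finset.sum_congr rfl fun W _ => term_smul_right f g T W c

end dist

section one

theorem one_fn (V : Type u) [AddCommGroup V] [Module F V] [Subsingleton V] (T : V →ₗ[F] V) :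
    (1 : Fam F).fn V T = 1 := if_pos ‹Subsingleton V›

theorem one_fn' (V : Type u) [AddCommGroup V] [Module F V] (h : ¬ Subsingleton V) (T : V →ₗ[F] V) :
    (1 : Fam F).fn V T = 0 := if_neg h

theorem one_mul' (f : Fam F) : 1 * f = f := by
  refine Fam.ext' fun V _ _ _ T => ?_
  have := Fintype.ofFinite (Submodule F V)
  rw [mul_fn', Finset.sum_eq_single ⊤]
  · rw [term_of (by intro x _; trivial), one_fn, one_mul]
    exact f.conj' (Submodule.topEquiv (R := F) (M := V)).symm fun _ => rfl
  · intro W _ hW
    by_cases h : W ≤ W.comap T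
    · rw [term_of h, one_fn', zero_mul]
      intro h1
      exact hW (Submodule.Quotient.subsingleton_iff.1 h1)
    · exact term_of_not h
  · intro h; exact absurd (Finset.mem_univ _) h

theorem mul_one' (f : Fam F) : f * 1 = f := by
  refine Fam.ext' fun V _ _ _ T => ?_
  have := Fintype.ofFinite (Submodule F V)
  rw [mul_fn', Finset.sum_eq_single ⊥]
  · rw [term_of bot_le, one_fn, mul_one]
    exact (f.conj' (Submodule.quotEquivOfEqBot (⊥ : Submodule F V) rfl).symm fun _ => rfl)
  · intro W _ hW
    by_cases h : W ≤ W.comap T
    · rw [term_of h, one_fn', mul_zero]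
      intro h1
      exact hW (Submodule.subsingleton_iff_eq_bot.1 h1)
    · exact term_of_not h
  · intro h; exact absurd (Finset.mem_univ _) h

end one

/-- the contribution of a chain `W ≤ W'` to a triple product -/
noncomputable def term3 (f g k : Fam F) (V : Type u) [AddCommGroup V] [Module F V] (T : V →ₗ[F] V)
    (W W' : Submodule F V) : ℂ := by
  classical
  exact if h : W ≤ W.comap T ∧ W' ≤ W'.comap T ∧ W ≤ W' then
    f.fn (V ⧸ W') (W'.mapQ W' T h.2.1) * (g.fn (W' ⧸ W.comap W'.subtype)
      ((W.comap W'.subtype).mapQ (W.comap W'.subtype) (T.restrict h.2.1) (fun x hx => h.1 hx)) *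
        k.fn W (T.restrict h.1)) else 0

theorem term_mul_right (f g k : Fam F) {V : Type u} [AddCommGroup V] [Module F V] [Finite V]
    [Fintype (Submodule F V)] (T : V →ₗ[F] V) (W' : Submodule F V) :
    f.term (g * k) V T W' = ∑ W : Submodule F V, term3 f g k V T W W' := by
  classical
  by_cases h' : W' ≤ W'.comap T
  · have := Fintype.ofFinite (Submodule F W')
    rw [term_of h', mul_fn', Finset.mul_sum,
      ← Finset.sum_subset (Finset.subset_univ (Finset.univ.filter fun W : Submodule F V => W ≤ W'))]
    · refine Finset.sum_nbij' (fun U => U.map W'.subtype) (fun W => W.comap W'.subtype) ?_ ?_ ?_ ?_ ?_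
      · intro U _
        exact Finset.mem_filter.2 ⟨Finset.mem_univ _, Submodule.map_subtype_le W' U⟩
      · intro W _
        exact Finset.mem_univ _
      · intro U _
        exact Submodule.comap_map_eq_of_injective W'.injective_subtype U
      · intro W hW
        rw [Submodule.map_comap_subtype]
        exact inf_eq_right.2 (Finset.mem_filter.1 hW).2
      · intro U _
        have hU : U.map W'.subtype ≤ W' := Submodule.map_subtype_le W' U
        have hc : (U.map W'.subtype).comap W'.subtype = U :=
          Submodule.comap_map_eq_of_injective W'.injective_subtype U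
        by_cases hst : U ≤ U.comap (T.restrict h')
        · have h1 : U.map W'.subtype ≤ (U.map W'.subtype).comap T := by
            rintro _ ⟨x, hx, rfl⟩
            exact ⟨T.restrict h' x, hst hx, rfl⟩
          rw [term_of hst, term3, dif_pos ⟨h1, h', hU⟩]
          congr 2
          · refine (g.conj' (Submodule.quotEquivOfEq _ _ hc.symm) ?_).symm
            intro x
            obtain ⟨v, rfl⟩ := U.mkQ_surjective x
            rfl
          · refine (k.conj' (Submodule.equivMapOfInjective W'.subtype W'.injective_subtype U) ?_).symm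
            intro x
            rfl
        · rw [term_of_not hst, mul_zero, term3, dif_neg]
          rintro ⟨h1, -, -⟩
          apply hst
          intro x hx
          obtain ⟨y, hy, hyx⟩ := h1 (Submodule.mem_map_of_mem (f := W'.subtype) hx)
          have : y = T.restrict h' x := Subtype.ext hyx
          rw [Submodule.mem_comap, ← this]
          exact hy
    · intro W _ hW
      rw [term3, dif_neg]
      rintro ⟨-, -, h3⟩
      exact hW (Finset.mem_filter.2 ⟨Finset.mem_univ _, h3⟩)
  · rw [term_of_not h']
    refine (Finset.sum_eq_zero fun W _ => ?_).symm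
    rw [term3, dif_neg]
    rintro ⟨-, h2, -⟩
    exact h' h2

theorem term_mul_left (f g k : Fam F) {V : Type u} [AddCommGroup V] [Module F V] [Finite V]
    [Fintype (Submodule F V)] (T : V →ₗ[F] V) (W : Submodule F V) :
    (f * g).term k V T W = ∑ W' : Submodule F V, term3 f g k V T W W' := by
  classical
  by_cases h : W ≤ W.comap T
  · have hfq : Finite (V ⧸ W) := Finite.of_surjective W.mkQ W.mkQ_surjective
    have := Fintype.ofFinite (Submodule F (V ⧸ W))
    rw [term_of h, mul_fn', Finset.sum_mul,
      ← Finset.sum_subset (Finset.subset_univ (Finset.univ.filter fun W' : Submodule F V => W ≤ W'))]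
    · refine Finset.sum_nbij' (fun U => U.comap W.mkQ) (fun W' => W'.map W.mkQ) ?_ ?_ ?_ ?_ ?_
      · intro U _
        exact Finset.mem_filter.2 ⟨Finset.mem_univ _, Submodule.le_comap_mkQ W U⟩
      · intro W' _
        exact Finset.mem_univ _
      · intro U _
        exact Submodule.map_comap_eq_of_surjective W.mkQ_surjective U
      · intro W' hW'
        rw [Submodule.comap_map_mkQ]
        exact sup_eq_right.2 (Finset.mem_filter.1 hW').2
      · intro U _
        have hU : W ≤ U.comap W.mkQ := Submodule.le_comap_mkQ W U
        have hm : (U.comap W.mkQ).map W.mkQ = U := Submodule.map_comap_eq_of_surjective W.mkQ_surjective U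
        by_cases hst : U ≤ U.comap (W.mapQ W T h)
        · have h1 : U.comap W.mkQ ≤ (U.comap W.mkQ).comap T := fun x hx => hst hx
          rw [term_of hst, term3, dif_pos ⟨h, h1, hU⟩, mul_assoc]
          congr 1
          · refine (f.conj' ((Submodule.quotEquivOfEq _ _ hm.symm).trans
              (Submodule.quotientQuotientEquivQuotient W (U.comap W.mkQ) hU)) ?_).symm
            intro x
            obtain ⟨v, rfl⟩ := U.mkQ_surjective x
            obtain ⟨v, rfl⟩ := W.mkQ_surjective v
            rfl
          · congr 1
            let φ : ↥(U.comap W.mkQ) →ₗ[F] U :=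
              (W.mkQ ∘ₗ (U.comap W.mkQ).subtype).codRestrict U (fun x => x.2)
            have hker : LinearMap.ker φ = W.comap (U.comap W.mkQ).subtype := by
              ext x
              rw [LinearMap.mem_ker, Submodule.mem_comap]
              constructor
              · intro hx
                have : W.mkQ (x : V) = 0 := congrArg Subtype.val hx
                exact (Submodule.Quotient.mk_eq_zero W).1 this
              · intro hx
                exact Subtype.ext ((Submodule.Quotient.mk_eq_zero W).2 hx)
            have hsur : Function.Surjective φ := by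
              rintro ⟨x, hx⟩
              obtain ⟨v, rfl⟩ := W.mkQ_surjective x
              exact ⟨⟨v, hx⟩, rfl⟩
            refine g.conj' ((Submodule.quotEquivOfEq _ _ hker.symm).trans
              (φ.quotKerEquivOfSurjective hsur)) ?_
            intro x
            obtain ⟨v, rfl⟩ := (W.comap (U.comap W.mkQ).subtype).mkQ_surjective x
            rfl
        · rw [term_of_not hst, zero_mul, term3, dif_neg]
          rintro ⟨-, h2, -⟩
          apply hst
          intro x hx
          obtain ⟨v, rfl⟩ := W.mkQ_surjective x
          exact h2 hx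
    · intro W' _ hW'
      rw [term3, dif_neg]
      rintro ⟨-, -, h3⟩
      exact hW' (Finset.mem_filter.2 ⟨Finset.mem_univ _, h3⟩)
  · rw [term_of_not h]
    refine (Finset.sum_eq_zero fun W' _ => ?_).symm
    rw [term3, dif_neg]
    rintro ⟨h1, -, -⟩
    exact h h1

theorem mul_assoc' (f g k : Fam F) : f * g * k = f * (g * k) := by
  refine Fam.ext' fun V _ _ _ T => ?_
  have := Fintype.ofFinite (Submodule F V)
  rw [mul_fn', mul_fn', Finset.sum_congr rfl fun W _ => term_mul_left f g k T W,
    Finset.sum_congr rfl fun W _ => term_mul_right f g k T W, Finset.sum_comm]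

end Fam

end Cfsg.Agent.H614.GLn
end

-- part: H614/GLn/Basic
section
/-!
# Basic families, inner product, labels
-/

set_option autoImplicit false

open Polynomial
open scoped ComplexConjugate

namespace Cfsg.Agent.H614.GLn

open Cfsg.Agent.H139.Cusp

universe u w

attribute [local instance] fintypeHom fintypeSub finite_quot

variable {F : Type u} [Field F]

/-- all members are generalized characters of the groups `GL(V)` -/
def IsVC (f : Fam F) : Prop := ∀ (V : Type u) [AddCommGroup V] [Module F V] [Finite V],
  IsGeneralizedCharacter (V →ₗ[F] V)ˣ (fun g => f.fn V (g : V →ₗ[F] V))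

/-- a function of the characteristic polynomial -/
noncomputable def grp (B : F[X] → ℂ) : Fam F where
  fn V _ _ T := by
    classical
    exact if h : Finite V then (haveI := h; B T.charpoly) else 0
  conj' := by
    intro V V' _ _ _ _ e T T' h
    by_cases hV : Finite V
    · have hV' : Finite V' := Finite.of_equiv V e.toEquiv
      rw [dif_pos hV, dif_pos hV']
      exact congrArg B (charpoly_conj_eq e h)
    · rw [dif_neg hV, dif_neg]
      intro h1
      exact hV (Finite.of_equiv V' e.symm.toEquiv)
  fin' T h := dif_neg h

theorem grp_fn (B : F[X] → ℂ) (V : Type u) [AddCommGroup V] [Module F V] [h : Finite V] (T : V →ₗ[F] V) :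
    (grp B).fn V T = B T.charpoly := dif_pos h

/-- pointwise multiplication by a function of the characteristic polynomial -/
noncomputable def pw (B : F[X] → ℂ) (f : Fam F) : Fam F where
  fn V _ _ T := (grp B).fn V T * f.fn V T
  conj' e _ _ h := by rw [(grp B).conj' e h, f.conj' e h]
  fin' T h := by rw [(grp B).fin' T h, zero_mul]

theorem pw_fn (B : F[X] → ℂ) (f : Fam F) (V : Type u) [AddCommGroup V] [Module F V] [Finite V]
    (T : V →ₗ[F] V) : (pw B f).fn V T = B T.charpoly * f.fn V T := by
  rw [← grp_fn B V T]; rfl

/-- the component of dimension `n` -/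
noncomputable def comp (n : ℕ) (f : Fam F) : Fam F := pw (fun p => if p.natDegree = n then 1 else 0) f

theorem comp_fn (n : ℕ) (f : Fam F) (V : Type u) [AddCommGroup V] [Module F V] [Finite V]
    (T : V →ₗ[F] V) : (comp n f).fn V T = if Module.finrank F V = n then f.fn V T else 0 := by
  rw [comp, pw_fn, LinearMap.charpoly_natDegree, ite_mul, one_mul, zero_mul]

/-- the Möbius inversion of an additive function of the characteristic polynomial -/
noncomputable def kapF (B : F[X] → ℂ) : Fam F where
  fn V _ _ T := by
    classical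
    exact if h : Finite V then (haveI := h; kap B T ⊤) else 0
  conj' := by
    intro V V' _ _ _ _ e T T' h
    by_cases hV : Finite V
    · have hV' : Finite V' := Finite.of_equiv V e.toEquiv
      rw [dif_pos hV, dif_pos hV']
      have h1 := kap_map B (e : V →ₗ[F] V') e.injective (g := T) (g' := T') h ⊤
      rw [← h1, Submodule.map_top, LinearEquiv.range]
    · rw [dif_neg hV, dif_neg]
      intro h1
      exact hV (Finite.of_equiv V' e.symm.toEquiv)
  fin' T h := dif_neg h

theorem kapF_fn (B : F[X] → ℂ) (V : Type u) [AddCommGroup V] [Module F V] [h : Finite V] (T : V →ₗ[F] V) :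
    (kapF B).fn V T = kap B T ⊤ := dif_pos h

/-- additive functions of monic polynomials -/
def Add (B : F[X] → ℂ) : Prop := ∀ p q : F[X], p.Monic → q.Monic → B (p * q) = B p + B q

/-- multiplicative functions of monic polynomials -/
def Mlt (B : F[X] → ℂ) : Prop := B 1 = 1 ∧ ∀ p q : F[X], p.Monic → q.Monic → B (p * q) = B p * B q

/-- families supported on automorphisms -/
def Unt (f : Fam F) : Prop := ∀ (V : Type u) [AddCommGroup V] [Module F V] (T : V →ₗ[F] V),
  ¬ IsUnit T → f.fn V T = 0

open Classical in
/-- the (hermitian) inner product of the restrictions to `GL_n(F)` -/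
noncomputable def ip (n : ℕ) (f g : Fam F) : ℂ :=
  (Nat.card ((Fin n → F) →ₗ[F] (Fin n → F))ˣ : ℂ)⁻¹ *
    ∑ᶠ x : ((Fin n → F) →ₗ[F] (Fin n → F))ˣ,
      f.fn (Fin n → F) (x : (Fin n → F) →ₗ[F] (Fin n → F)) * conj (g.fn (Fin n → F) (x : (Fin n → F) →ₗ[F] (Fin n → F)))

section labels

variable {K : Type w} [Field K] [Algebra F K] (θ : K →*₀ ℂ)

open Classical in
/-- the sum over the nonzero roots of the `a`-th power of `θ` -/
noncomputable def lba (a : ℕ) (h : F[X]) : ℂ :=
  ((h.map (algebraMap F K)).roots.map fun x => if x = 0 then 0 else θ x ^ a).sum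

theorem lba_add (a : ℕ) : Add (F := F) (lba θ a) := by
  intro p q hp hq
  rw [lba, Polynomial.map_mul, roots_mul (mul_ne_zero (hp.map _).ne_zero (hq.map _).ne_zero),
    Multiset.map_add, Multiset.sum_add]
  rfl

/-- the primitive class function `R_k(θ^a)` of `GL_k(F)` -/
noncomputable def Rf (k a : ℕ) : Fam F := comp k (kapF (lba θ a))

/-- the exponent of the character of the torus of order `q^k - 1` with label `c ∈ ℤ/M`, `(q^k - 1) c = 0` -/
def expo (q M : ℕ) (k : ℕ) (c : ZMod M) : ℕ := c.val * (q ^ k - 1) / M

/-- the primitive class function of `GL_k(F)` with label `c` (to be used when `(q^k - 1) c = 0`) -/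
noncomputable def Rc (M k : ℕ) (c : ZMod M) : Fam F := Rf θ k (expo (Nat.card F) M k c)

end labels

end Cfsg.Agent.H614.GLn
end
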